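import Mathlib
import Cfsg.Prelude.Def_TwoFusion

/-!
# Twisting a factor of a direct product, and homomorphisms from dihedral groups with small image

For S3113 (product fusion): the choice of complements.
-/

set_option autoImplicit false

namespace CfsgLib.DihedralPairFusion

open Cfsg

universe u

variable {G : Type u} [Group G]

/-- Twist of the first factor by a homomorphism into the central part of the second. -/
theorem twist {D₁ D₂ P : Subgroup G} (hD : IsInternalDirectProduct D₁ D₂ P) (φ : D₁ →* G)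
    (hφ : ∀ d, φ d ∈ D₂) (hc : ∀ d, ∀ p ∈ P, φ d * p = p * φ d) :
    ∃ S₁ : Subgroup G, (∀ x, x ∈ S₁ ↔ ∃ d : D₁, x = (d : G) * φ d) ∧
      IsInternalDirectProduct S₁ D₂ P ∧ Nonempty (S₁ ≃* D₁) := by
  obtain ⟨h1, h2, hcomm, hinf, hsup⟩ := hD
  let f : D₁ →* G :=
    { toFun := fun d => (d : G) * φ d
      map_one' := by simp
      map_mul' := fun a b => by
        calc ((a * b : D₁) : G) * φ (a * b) = (a : G) * ((b : G) * φ a) * φ b := by
              rw [Subgroup.coe_mul, map_mul]; group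
          _ = (a : G) * φ a * ((b : G) * φ b) := by
              rw [← hc a b (h1 b.2)]; group }
  have hf : ∀ d : D₁, f d = (d : G) * φ d := fun _ => rfl
  have hinj : Function.Injective f := by
    refine (injective_iff_map_eq_one f).2 fun d e => ?_
    rw [hf, mul_eq_one_iff_eq_inv] at e
    have : (d : G) ∈ D₁ ⊓ D₂ := ⟨d.2, e ▸ D₂.inv_mem (hφ d)⟩
    rw [hinf, Subgroup.mem_bot] at this
    exact Subtype.ext this
  refine ⟨f.range, fun x => ?_, ⟨?_, h2, ?_, ?_, ?_⟩, ⟨(f.ofInjective hinj).symm⟩⟩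
  · exact ⟨fun ⟨d, e⟩ => ⟨d, e.symm⟩, fun ⟨d, e⟩ => ⟨d, e.symm⟩⟩
  · rintro _ ⟨d, rfl⟩
    exact P.mul_mem (h1 d.2) (h2 (hφ d))
  · rintro _ ⟨d, rfl⟩ b hb
    calc f d * b = (d : G) * (φ d * b) := by rw [hf]; group
      _ = (d : G) * b * φ d := by rw [hc d b (h2 hb)]; group
      _ = b * f d := by rw [hcomm d d.2 b hb, hf]; group
  · rw [Subgroup.eq_bot_iff_forall]
    rintro _ ⟨⟨d, rfl⟩, hd⟩
    have : (d : G) ∈ D₁ ⊓ D₂ := ⟨d.2, by
      have := D₂.mul_mem hd (D₂.inv_mem (hφ d))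
      rwa [hf, mul_inv_cancel_right] at this⟩
    rw [hinf, Subgroup.mem_bot] at this
    rw [show d = 1 from Subtype.ext this, map_one]
  · refine le_antisymm (sup_le ?_ h2) (hsup ▸ sup_le ?_ le_sup_right)
    · rintro _ ⟨d, rfl⟩
      exact P.mul_mem (h1 d.2) (h2 (hφ d))
    · intro d hd
      have h3 : f ⟨d, hd⟩ * (φ ⟨d, hd⟩)⁻¹ ∈ f.range ⊔ D₂ :=
        mul_mem (Subgroup.mem_sup_left ⟨_, rfl⟩) (Subgroup.mem_sup_right (D₂.inv_mem (hφ _)))
      rwa [hf, mul_inv_cancel_right] at h3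

variable {H : Type*} [Group H]

/-- A homomorphism on a dihedral group of even degree given by the values on the two classes of
reflections. -/
theorem exists_dihedralHom {m : ℕ} (hm : 2 ∣ m) {e₀ e₁ : H} (h0 : e₀ * e₀ = 1) (h1 : e₁ * e₁ = 1)
    (h01 : e₀ * e₁ = e₁ * e₀) :
    ∃ f : DihedralGroup m →* H, ∀ i : ZMod m,
      f (DihedralGroup.r i) = (e₀ * e₁) ^ (ZMod.castHom hm (ZMod 2) i).val ∧
        f (DihedralGroup.sr i) = e₀ * (e₀ * e₁) ^ (ZMod.castHom hm (ZMod 2) i).val := by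
  obtain ⟨c, hc⟩ : ∃ c, c = e₀ * e₁ := ⟨_, rfl⟩
  obtain ⟨p, hp⟩ : ∃ p : ZMod m → ℕ, ∀ i, p i = (ZMod.castHom hm (ZMod 2) i).val := ⟨_, fun _ => rfl⟩
  have hcc : c * c = 1 := by
    rw [hc, mul_assoc, ← mul_assoc e₁ e₀ e₁, ← h01, mul_assoc, h1, mul_one, h0]
  have hec : e₀ * c = c * e₀ := by
    rw [hc, mul_assoc e₀ e₁ e₀, ← h01]
  have hval : ∀ a b : ZMod 2, c ^ (a + b).val = c ^ a.val * c ^ b.val ∧ c ^ (a - b).val = c ^ a.val * c ^ b.val := by
    have key : ∀ a b : ZMod 2, (a + b).val % 2 = (a.val + b.val) % 2 ∧ (a - b).val % 2 = (a.val + b.val) % 2 := by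
      decide
    have hred : ∀ n, c ^ n = c ^ (n % 2) := fun n => by
      conv_lhs => rw [← Nat.mod_add_div n 2, pow_add, pow_mul, pow_two, hcc, one_pow, mul_one]
    intro a b
    obtain ⟨k1, k2⟩ := key a b
    rw [← pow_add]
    exact ⟨by rw [hred, k1, ← hred], by rw [hred, k2, ← hred]⟩
  have hadd : ∀ i j, c ^ p (i + j) = c ^ p i * c ^ p j := fun i j => by
    rw [hp, hp, hp, map_add]; exact (hval _ _).1
  have hsub : ∀ i j, c ^ p (j - i) = c ^ p i * c ^ p j := fun i j => by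
    rw [hp, hp, hp, map_sub, (hval _ _).2, ← pow_add, add_comm, pow_add]
  have hce : ∀ n : ℕ, e₀ * c ^ n = c ^ n * e₀ := fun n => (Commute.pow_right hec n).eq
  refine ⟨MonoidHom.mk' (fun x => match x with
    | DihedralGroup.r i => c ^ p i
    | DihedralGroup.sr i => e₀ * c ^ p i) ?_, fun i => ⟨by simp [hc, hp], by simp [hc, hp]⟩⟩
  rintro (i | i) (j | j)
  · exact hadd i j
  · show e₀ * c ^ p (j - i) = c ^ p i * (e₀ * c ^ p j)
    rw [hsub, ← mul_assoc, hce, mul_assoc]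
  · show e₀ * c ^ p (i + j) = e₀ * c ^ p i * c ^ p j
    rw [hadd, mul_assoc]
  · show c ^ p (j - i) = e₀ * c ^ p i * (e₀ * c ^ p j)
    rw [hsub, hce (p i), mul_assoc, ← mul_assoc e₀ e₀, h0, one_mul]

end CfsgLib.DihedralPairFusion
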