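import Cfsg.Agent.Lib.DihedralPairFusion.BigFusion
import Cfsg.Agent.Lib.DihedralPairFusion.Twist

/-!
# Piece A of S3113: both dihedral factors nonabelian
-/

set_option autoImplicit false
set_option linter.style.haveILetI false
set_option linter.unusedSectionVars false

namespace CfsgLib.DihedralPairFusion

namespace Big

open Cfsg Subgroup

universe u

variable {G : Type u} [Group G]

/-- A parametrization of a factor by the dihedral group. -/
noncomputable def param {D : Subgroup G} {m : ℕ} (e : D ≃* DihedralGroup m) :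
    DihedralGroup m →* G :=
  D.subtype.comp e.symm.toMonoidHom

/-- The rotations. -/
noncomputable def rot {D : Subgroup G} {m : ℕ} (e : D ≃* DihedralGroup m) : Subgroup G :=
  (zpowers (DihedralGroup.r (1 : ZMod m))).map (param e)

variable {D : Subgroup G} {m : ℕ} (e : D ≃* DihedralGroup m)

theorem param_mem (x : DihedralGroup m) : param e x ∈ D := (e.symm x).2

theorem param_inj : Function.Injective (param e) :=
  fun _ _ h => e.symm.injective (Subtype.ext h)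

theorem param_surj {d : G} (hd : d ∈ D) : ∃ x, param e x = d :=
  ⟨e ⟨d, hd⟩, by show ((e.symm (e ⟨d, hd⟩) : D) : G) = d; rw [e.symm_apply_apply]⟩

theorem mem_rot {x : G} [NeZero m] : x ∈ rot e ↔ ∃ i, param e (DihedralGroup.r i) = x := by
  constructor
  · rintro ⟨y, hy, rfl⟩
    obtain ⟨k, rfl⟩ := mem_zpowers_iff.1 hy
    exact ⟨(k : ZMod m), congrArg _ (by rw [DihedralGroup.r_one_zpow])⟩
  · rintro ⟨i, rfl⟩
    refine ⟨_, mem_zpowers_iff.2 ⟨(i.val : ℤ), ?_⟩, rfl⟩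
    rw [zpow_natCast, DihedralGroup.r_one_pow, ZMod.natCast_zmod_val]

theorem refl_sr [NeZero m] {s : G} (hs : s ∈ D) (hsR : s ∉ rot e) :
    ∃ i, param e (DihedralGroup.sr i) = s := by
  obtain ⟨x, hx⟩ := param_surj e hs
  cases x with
  | r i => exact absurd ((mem_rot e).2 ⟨i, hx⟩) hsR
  | sr i => exact ⟨i, hx⟩

theorem four_dvd {D : Subgroup G} [Finite G] (hD : IsPGroup 2 D) {m : ℕ} (hm : 4 ≤ m)
    (e : D ≃* DihedralGroup m) : 4 ∣ m := by
  haveI : Fact (Nat.Prime 2) := ⟨Nat.prime_two⟩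
  obtain ⟨k, hk⟩ := hD.exists_card_eq
  rw [Nat.card_congr e.toEquiv, DihedralGroup.nat_card] at hk
  rcases k with _ | _ | _ | k
  · norm_num at hk
  · norm_num at hk; omega
  · norm_num at hk; omega
  · exact ⟨2 ^ k, by rw [pow_add] at hk; omega⟩

theorem dih_of_equiv [NeZero m] {n : ℕ} (hm : m = 4 * n) :
    Dih D (rot e) (param e (DihedralGroup.r ((2 * n : ℕ) : ZMod m))) := by
  have hn : 0 < n := by
    have := NeZero.ne m
    omega
  have hr : ∀ {x : G}, x ∈ rot e → ∃ i, param e (DihedralGroup.r i) = x := (mem_rot e).1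
  refine
    { le := ?_, mem_z := (mem_rot e).2 ⟨_, rfl⟩, z_ne := ?_, z_sq := ?_, comm := ?_,
      refl_sq := ?_, refl_inv := ?_, prod_refl := ?_, invol := ?_, root := ?_, refl := ?_ }
  · intro x hx
    obtain ⟨i, rfl⟩ := hr hx
    exact param_mem e _
  · intro h
    have h1 := param_inj e (h.trans (map_one (param e)).symm)
    rw [DihedralGroup.one_def, DihedralGroup.r.injEq, ZMod.natCast_eq_zero_iff] at h1
    have := Nat.le_of_dvd (by omega) h1
    omega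
  · rw [← map_mul, DihedralGroup.r_mul_r, ← Nat.cast_add,
      (ZMod.natCast_eq_zero_iff (2 * n + 2 * n) m).2 (by rw [hm]; exact dvd_of_eq (by ring)),
      ← DihedralGroup.one_def, map_one]
  · intro a ha b hb
    obtain ⟨i, rfl⟩ := hr ha
    obtain ⟨j, rfl⟩ := hr hb
    rw [← map_mul, ← map_mul, DihedralGroup.r_mul_r, DihedralGroup.r_mul_r, add_comm]
  · intro s hs hsR
    obtain ⟨i, rfl⟩ := refl_sr e hs hsR
    rw [← map_mul, DihedralGroup.sr_mul_self, map_one]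
  · intro s hs hsR x hx
    obtain ⟨i, rfl⟩ := refl_sr e hs hsR
    obtain ⟨j, rfl⟩ := hr hx
    rw [← map_inv, ← map_inv, ← map_mul, ← map_mul, DihedralGroup.inv_sr, DihedralGroup.sr_mul_r,
      DihedralGroup.sr_mul_sr, DihedralGroup.inv_r]
    congr 2
    ring
  · intro s hs t ht hsR htR
    obtain ⟨i, rfl⟩ := refl_sr e hs hsR
    obtain ⟨j, rfl⟩ := refl_sr e ht htR
    exact (mem_rot e).2 ⟨j - i, by rw [← map_mul, DihedralGroup.sr_mul_sr]⟩
  · intro x hx h2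
    obtain ⟨i, rfl⟩ := hr hx
    rw [← map_mul, ← map_one (param e)] at h2
    have h3 := param_inj e h2
    rw [DihedralGroup.r_mul_r, DihedralGroup.one_def, DihedralGroup.r.injEq] at h3
    have h4 : ((i.val + i.val : ℕ) : ZMod m) = 0 := by
      rw [Nat.cast_add, ZMod.natCast_zmod_val, h3]
    rw [ZMod.natCast_eq_zero_iff] at h4
    obtain ⟨c, hc⟩ := h4
    have hlt := ZMod.val_lt i
    have hc2 : c < 2 := by
      by_contra hge
      have := Nat.mul_le_mul_left m (show 2 ≤ c by omega)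
      omega
    interval_cases c
    · refine Or.inl ?_
      rw [show i = 0 by rw [← ZMod.natCast_zmod_val i, show i.val = 0 by omega, Nat.cast_zero],
        ← DihedralGroup.one_def, map_one]
    · refine Or.inr ?_
      rw [show i = ((2 * n : ℕ) : ZMod m) by
        rw [← ZMod.natCast_zmod_val i, show i.val = 2 * n by omega]]
  · refine ⟨param e (DihedralGroup.r ((n : ℕ) : ZMod m)), (mem_rot e).2 ⟨_, rfl⟩, ?_⟩
    rw [← map_mul, DihedralGroup.r_mul_r, ← Nat.cast_add, show n + n = 2 * n by ring]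
  · refine ⟨param e (DihedralGroup.sr 0), param_mem e _, fun h => ?_⟩
    obtain ⟨i, hi⟩ := hr h
    exact absurd (param_inj e hi) (by simp)

/-- A reflection is conjugate to one of two fixed ones. -/
theorem refl_class [NeZero m] {s : G} (hs : s ∈ D) (hsR : s ∉ rot e) :
    ∃ b : Fin 2, ∃ j : ZMod m, param e (DihedralGroup.r j) * s * (param e (DihedralGroup.r j))⁻¹ =
      param e (DihedralGroup.sr ((b.val : ℕ) : ZMod m)) := by
  obtain ⟨i, rfl⟩ := refl_sr e hs hsR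
  refine ⟨⟨i.val % 2, Nat.mod_lt _ (by norm_num)⟩, ((i.val / 2 : ℕ) : ZMod m), ?_⟩
  rw [← map_inv, ← map_mul, ← map_mul, DihedralGroup.inv_r, DihedralGroup.r_mul_sr,
    DihedralGroup.sr_mul_r]
  congr 2
  have h := congrArg (Nat.cast : ℕ → ZMod m) (Nat.mod_add_div i.val 2)
  rw [ZMod.natCast_zmod_val] at h
  push_cast at h ⊢
  linear_combination -h

/-- Re-choice of the first factor: all its reflections become conjugate to the centre. -/
theorem adjust [Finite G] (hG : ∀ N : Subgroup G, N.Normal → N.index ≠ 2) {S : Sylow 2 G}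
    {D₂ R₁ R₂ : Subgroup G} {z₁ z₂ : G} (hm : 4 ≤ m) (hR : R₁ = rot e)
    (F : Frame S D D₂ R₁ R₂ z₁ z₂) :
    ∃ S₁ R : Subgroup G, Frame S S₁ D₂ R R₂ z₁ z₂ ∧ Nonempty (S₁ ≃* DihedralGroup m) ∧
      ∀ s ∈ S₁, s ∉ R → IsConj s z₁ := by
  haveI : NeZero m := ⟨by omega⟩
  subst hR
  obtain ⟨n, hn⟩ := four_dvd (S.2.to_le F.dp.1) hm e
  have href : ∀ i, param e (DihedralGroup.sr i) ∉ rot e := fun i h => by
    obtain ⟨j, hj⟩ := (mem_rot e).1 h
    exact absurd (param_inj e hj) (by simp)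
  have hval : ∀ i, ∃ x : G, x ∈ zpowers z₂ ∧ x * x = 1 ∧
      IsConj (param e (DihedralGroup.sr i) * x) z₁ := by
    intro i
    rcases F.refl_pair hG (param_mem e _) (href i) with h | h
    · exact ⟨1, one_mem _, one_mul 1, by rw [mul_one]; exact h.1⟩
    · exact ⟨z₂, mem_zpowers z₂, F.d₂.z_sq, h.2⟩
  obtain ⟨e₀, he₀, he₀2, hc₀⟩ := hval 0
  obtain ⟨e₁, he₁, he₁2, hc₁⟩ := hval 1
  have hzz : ∀ a ∈ zpowers z₂, ∀ b ∈ zpowers z₂, a * b = b * a := fun a ha b hb => by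
    obtain ⟨i, rfl⟩ := mem_zpowers_iff.1 ha
    obtain ⟨j, rfl⟩ := mem_zpowers_iff.1 hb
    exact ((Commute.refl z₂).zpow_zpow i j).eq
  obtain ⟨f, hf⟩ := exists_dihedralHom (m := m) ⟨2 * n, by omega⟩ he₀2 he₁2 (hzz _ he₀ _ he₁)
  have hfmem : ∀ x, f x ∈ zpowers z₂ := by
    rintro (i | i)
    · rw [(hf i).1]; exact pow_mem (mul_mem he₀ he₁) _
    · rw [(hf i).2]; exact mul_mem he₀ (pow_mem (mul_mem he₀ he₁) _)
  have hzsq : ∀ a ∈ zpowers z₂, a * a = 1 := fun a ha => by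
    obtain ⟨i, rfl⟩ := mem_zpowers_iff.1 ha
    rw [← (Commute.refl z₂).mul_zpow, F.d₂.z_sq, one_zpow]
  have hcent : ∀ a ∈ zpowers z₂, ∀ p ∈ (S : Subgroup G), a * p = p * a := fun a ha p hp => by
    obtain ⟨i, rfl⟩ := mem_zpowers_iff.1 ha
    exact (Commute.zpow_left (F.symm.z₁_comm hp) i).eq
  let φ : D →* G := f.comp e.toMonoidHom
  have hφ : ∀ d, φ d ∈ zpowers z₂ := fun d => hfmem _
  obtain ⟨S₁, hS₁, hdp, ⟨iso⟩⟩ := twist F.dp φ (fun d => (zpowers_le.2 F.d₂.mem) (hφ d))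
    (fun d p hp => hcent _ (hφ d) p hp)
  let e' : S₁ ≃* DihedralGroup m := iso.trans e
  have hd' := dih_of_equiv e' hn
  have hz : param e' (DihedralGroup.r ((2 * n : ℕ) : ZMod m)) = z₁ := by
    obtain ⟨q, hq, hqz⟩ := hd'.root
    obtain ⟨d, rfl⟩ := (hS₁ q).1 (hd'.le hq)
    rw [F.mul_mul d.2 ((zpowers_le.2 F.d₂.mem) (hφ d)), hzsq _ (hφ d), mul_one] at hqz
    rw [← hqz]
    rcases F.d₁.sq_invol d.2 (by rw [hqz]; exact hd'.z_sq) with h | h
    · exact absurd (hqz.symm.trans h) hd'.z_ne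
    · exact h
  rw [hz] at hd'
  refine ⟨S₁, rot e', ⟨hdp, hd', F.d₂⟩, ⟨e'⟩, fun x hx hxR => ?_⟩
  obtain ⟨d, rfl⟩ := (hS₁ x).1 hx
  have hd2 : (d : G) * d = 1 ∧ φ d * φ d = 1 :=
    F.invol d.2 ((zpowers_le.2 F.d₂.mem) (hφ d)) (hd'.refl_sq _ hx hxR)
  have hdR : (d : G) ∉ rot e := by
    intro hR
    have h1 := (F.d₁.invol _ hR hd2.1)
    rcases h1 with h1 | h1
    · have : d = 1 := Subtype.ext h1
      rw [this, map_one, OneMemClass.coe_one, one_mul] at hxR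
      exact hxR (one_mem _)
    · obtain ⟨r, hr, hrz⟩ := F.d₁.root
      have : d = ⟨r, F.d₁.le hr⟩ * ⟨r, F.d₁.le hr⟩ := Subtype.ext (h1.trans hrz.symm)
      rw [this, map_mul, hzsq _ (hφ _), mul_one, coe_mul, hrz] at hxR
      exact hxR hd'.mem_z
  obtain ⟨b, j, hbj⟩ := refl_class e d.2 hdR
  set a : D := e.symm (DihedralGroup.r j) with ha
  have haG : (a : G) = param e (DihedralGroup.r j) := rfl
  have hcomm : Commute (φ a) (φ d) := hzz _ (hφ a) _ (hφ d)
  have hφd : f (DihedralGroup.sr ((b.val : ℕ) : ZMod m)) = φ d := by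
    have : (a * d * a⁻¹ : D) = e.symm (DihedralGroup.sr ((b.val : ℕ) : ZMod m)) := Subtype.ext hbj
    have h2 := congrArg φ this
    rw [map_mul, map_mul, map_inv, hcomm.eq, mul_inv_cancel_right] at h2
    rw [h2]
    show f _ = f (e (e.symm _))
    rw [e.apply_symm_apply]
  refine IsConj.trans (isConj_iff.2 ⟨(a : G), ?_⟩)
    (b := param e (DihedralGroup.sr ((b.val : ℕ) : ZMod m)) *
      f (DihedralGroup.sr ((b.val : ℕ) : ZMod m))) ?_
  · rw [hφd, ← hbj, ← haG]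
    calc (a : G) * ((d : G) * φ d) * (a : G)⁻¹ = (a : G) * d * (φ d * (a : G)⁻¹) := by group
      _ = (a : G) * d * (a : G)⁻¹ * φ d := by
        rw [hcent _ (hφ d) _ (F.mem₁ (inv_mem a.2))]; group
  · fin_cases b
    · show IsConj (param e (DihedralGroup.sr ((0 : ℕ) : ZMod m)) * f (DihedralGroup.sr ((0 : ℕ) : ZMod m))) z₁
      rw [Nat.cast_zero, (hf 0).2, map_zero, ZMod.val_zero, pow_zero, mul_one]
      exact hc₀
    · show IsConj (param e (DihedralGroup.sr ((1 : ℕ) : ZMod m)) * f (DihedralGroup.sr ((1 : ℕ) : ZMod m))) z₁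
      rw [Nat.cast_one, (hf 1).2, map_one, ZMod.val_one, pow_one, ← mul_assoc e₀, he₀2, one_mul]
      exact hc₁

end Big

universe u

open Cfsg Subgroup Big in
/-- Piece A: both factors nonabelian. -/
theorem big : BigStmt.{u} := by
  intro G _ _ hG S D₁ D₂ hD m₁ m₂ hm₁ hm₂ ⟨e₁⟩ ⟨e₂⟩
  haveI : NeZero m₁ := ⟨by omega⟩
  haveI : NeZero m₂ := ⟨by omega⟩
  obtain ⟨n₁, hn₁⟩ := four_dvd (S.2.to_le hD.1) hm₁ e₁
  obtain ⟨n₂, hn₂⟩ := four_dvd (S.2.to_le hD.2.1) hm₂ e₂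
  obtain ⟨S₁, R₁, F₁, hi₁, h₁⟩ := adjust e₁ hG hm₁ rfl
    (⟨hD, dih_of_equiv e₁ hn₁, dih_of_equiv e₂ hn₂⟩ : Frame S D₁ D₂ _ _ _ _)
  obtain ⟨S₂, R₂, F₂, hi₂, h₂⟩ := adjust e₂ hG hm₂ rfl F₁.symm
  exact ⟨S₁, S₂, F₂.symm.dp, hi₁, hi₂, F₂.symm.invClosed hG h₁ h₂, F₂.invClosed hG h₂ h₁⟩

end CfsgLib.DihedralPairFusion
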