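import Cfsg.Agent.Lib.DihedralPairFusion.Interface
import Cfsg.Agent.Lib.Transfer.ThompsonTransfer
import Cfsg.Agent.Lib.Transfer.Fusion

/-!
# Sylow 2-subgroups `D₁ × D₂`, both factors nonabelian: classes of involutions (piece A of S3113)

Coordinates private to piece A: in each dihedral factor the rotations, the central involution and
the reflections.
-/

set_option autoImplicit false
set_option linter.style.haveILetI false
set_option linter.unusedSectionVars false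

namespace CfsgLib.DihedralPairFusion

namespace Big

open Cfsg Subgroup

universe u

variable {G : Type u} [Group G]

/-- A nonabelian dihedral 2-group with its rotations and its central involution. -/
structure Dih (D R : Subgroup G) (z : G) : Prop where
  le : R ≤ D
  mem_z : z ∈ R
  z_ne : z ≠ 1
  z_sq : z * z = 1
  comm : ∀ a ∈ R, ∀ b ∈ R, a * b = b * a
  refl_sq : ∀ s ∈ D, s ∉ R → s * s = 1
  refl_inv : ∀ s ∈ D, s ∉ R → ∀ r ∈ R, s * r * s⁻¹ = r⁻¹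
  prod_refl : ∀ s ∈ D, ∀ t ∈ D, s ∉ R → t ∉ R → s * t ∈ R
  invol : ∀ r ∈ R, r * r = 1 → r = 1 ∨ r = z
  root : ∃ r ∈ R, r * r = z
  refl : ∃ s ∈ D, s ∉ R

variable {D R : Subgroup G} {z : G}

theorem Dih.mem (h : Dih D R z) : z ∈ D := h.le h.mem_z

theorem Dih.sq_mem (h : Dih D R z) {d : G} (hd : d ∈ D) : d * d ∈ R := by
  by_cases hR : d ∈ R
  · exact mul_mem hR hR
  · rw [h.refl_sq d hd hR]; exact one_mem _

theorem Dih.sq_invol (h : Dih D R z) {d : G} (hd : d ∈ D) (h2 : d * d * (d * d) = 1) :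
    d * d = 1 ∨ d * d = z :=
  h.invol _ (h.sq_mem hd) h2

theorem Dih.central (h : Dih D R z) {d : G} (hd : d ∈ D) : z * d = d * z := by
  by_cases hR : d ∈ R
  · exact h.comm z h.mem_z d hR
  · have e := h.refl_inv d hd hR z h.mem_z
    rw [inv_eq_of_mul_eq_one_right h.z_sq, mul_inv_eq_iff_eq_mul] at e
    exact e.symm

theorem Dih.root_of_sq (h : Dih D R z) {d : G} (hd : d ∈ D) (hsq : d * d = z) : d ∈ R :=
  by_contra fun hR => h.z_ne (hsq.symm.trans (h.refl_sq d hd hR))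

theorem Dih.noncomm (h : Dih D R z) {s r : G} (hs : s ∈ D) (hsR : s ∉ R) (hr : r ∈ R)
    (hrz : r * r = z) : s * r ∈ D ∧ s * r ∉ R ∧ s * (s * r) ≠ s * r * s := by
  refine ⟨mul_mem hs (h.le hr), fun hc => hsR ?_, fun e => h.z_ne ?_⟩
  · simpa using mul_mem hc (inv_mem hr)
  · have e1 : s * (s * r) = r := by rw [← mul_assoc, h.refl_sq s hs hsR, one_mul]
    have e2 : s * r * s = r⁻¹ := by
      have := h.refl_inv s hs hsR r hr
      rwa [inv_eq_of_mul_eq_one_right (h.refl_sq s hs hsR)] at this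
    rw [e1, e2, eq_inv_iff_mul_eq_one] at e
    exact hrz.symm.trans e

/-- What centralizes a reflection has square one. -/
theorem Dih.sq_of_commute (h : Dih D R z) {s d : G} (hs : s ∈ D) (hsR : s ∉ R) (hd : d ∈ D)
    (hc : d * s = s * d) : d * d = 1 := by
  by_cases hR : d ∈ R
  · have h1 := h.refl_inv s hs hsR d hR
    rw [← hc, mul_inv_cancel_right, eq_inv_iff_mul_eq_one] at h1
    exact h1
  · exact h.refl_sq d hd hR

/-- The centralizer of a reflection is commutative. -/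
theorem Dih.comm_of_commute (h : Dih D R z) {s d e : G} (hs : s ∈ D) (hsR : s ∉ R) (hd : d ∈ D)
    (he : e ∈ D) (hcd : d * s = s * d) (hce : e * s = s * e) : d * e = e * d := by
  have hde : (d * e) * (d * e) = 1 := h.sq_of_commute hs hsR (mul_mem hd he)
    (by rw [mul_assoc, hce, ← mul_assoc, hcd, mul_assoc])
  calc d * e = (d * e)⁻¹ := (inv_eq_of_mul_eq_one_right hde).symm
    _ = e⁻¹ * d⁻¹ := mul_inv_rev _ _
    _ = e * d := by rw [inv_eq_of_mul_eq_one_right (h.sq_of_commute hs hsR hd hcd),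
        inv_eq_of_mul_eq_one_right (h.sq_of_commute hs hsR he hce)]

theorem Dih.invol_cases (h : Dih D R z) {d : G} (hd : d ∈ D) (h2 : d * d = 1) :
    d = 1 ∨ d = z ∨ d ∉ R := by
  by_cases hR : d ∈ R
  · exact (h.invol d hR h2).imp_right Or.inl
  · exact Or.inr (Or.inr hR)

/-- A Sylow subgroup with the two factors. -/
structure Frame (S : Sylow 2 G) (D₁ D₂ R₁ R₂ : Subgroup G) (z₁ z₂ : G) : Prop where
  dp : IsInternalDirectProduct D₁ D₂ (S : Subgroup G)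
  d₁ : Dih D₁ R₁ z₁
  d₂ : Dih D₂ R₂ z₂

variable {S : Sylow 2 G} {D₁ D₂ R₁ R₂ : Subgroup G} {z₁ z₂ : G}
  (F : Frame S D₁ D₂ R₁ R₂ z₁ z₂)
include F

theorem Frame.symm : Frame S D₂ D₁ R₂ R₁ z₂ z₁ :=
  ⟨⟨F.dp.2.1, F.dp.1, fun a ha b hb => (F.dp.2.2.1 b hb a ha).symm,
    by rw [inf_comm]; exact F.dp.2.2.2.1, by rw [sup_comm]; exact F.dp.2.2.2.2⟩, F.d₂, F.d₁⟩

theorem Frame.mem₁ {a : G} (ha : a ∈ D₁) : a ∈ (S : Subgroup G) := F.dp.1 ha

theorem Frame.mem₂ {b : G} (hb : b ∈ D₂) : b ∈ (S : Subgroup G) := F.dp.2.1 hb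

theorem Frame.cm {a b : G} (ha : a ∈ D₁) (hb : b ∈ D₂) : a * b = b * a := F.dp.2.2.1 a ha b hb

theorem Frame.dec {x : G} (hx : x ∈ (S : Subgroup G)) : ∃ a ∈ D₁, ∃ b ∈ D₂, a * b = x := by
  rw [← F.dp.2.2.2.2, ← SetLike.mem_coe, coe_mul_of_left_le_normalizer_right D₁ D₂ (fun a ha =>
    centralizer_le_normalizer _ (mem_centralizer_iff.2 fun b hb => (F.cm ha hb).symm))] at hx
  exact Set.mem_mul.1 hx

theorem Frame.eq_of {a a' b b' : G} (ha : a ∈ D₁) (hb : b ∈ D₂) (ha' : a' ∈ D₁) (hb' : b' ∈ D₂)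
    (e : a * b = a' * b') : a = a' ∧ b = b' := by
  have h1 : a'⁻¹ * a = b' * b⁻¹ := by
    rw [eq_mul_inv_iff_mul_eq, mul_assoc, e, inv_mul_cancel_left]
  have h2 : a'⁻¹ * a = 1 := mem_bot.1 (F.dp.2.2.2.1 ▸
    mem_inf.2 ⟨mul_mem (inv_mem ha') ha, h1 ▸ mul_mem hb' (inv_mem hb)⟩)
  rw [h2, eq_comm, mul_inv_eq_one] at h1
  exact ⟨(inv_mul_eq_one.1 h2).symm, h1.symm⟩

theorem Frame.mul_mul {a a' b b' : G} (ha' : a' ∈ D₁) (hb : b ∈ D₂) :
    a * b * (a' * b') = a * a' * (b * b') := by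
  rw [mul_assoc, ← mul_assoc b, ← F.cm ha' hb, mul_assoc a' b, ← mul_assoc]

theorem Frame.commute_iff {a a' b b' : G} (ha : a ∈ D₁) (hb : b ∈ D₂) (ha' : a' ∈ D₁)
    (hb' : b' ∈ D₂) :
    a * b * (a' * b') = a' * b' * (a * b) ↔ a * a' = a' * a ∧ b * b' = b' * b := by
  rw [F.mul_mul ha' hb, F.mul_mul ha hb']
  exact ⟨fun e => F.eq_of (mul_mem ha ha') (mul_mem hb hb') (mul_mem ha' ha) (mul_mem hb' hb) e,
    fun ⟨e1, e2⟩ => by rw [e1, e2]⟩

theorem Frame.sq_eq {a b c d : G} (ha : a ∈ D₁) (hb : b ∈ D₂) (hc : c ∈ D₁) (hd : d ∈ D₂)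
    (e : a * b * (a * b) = c * d) : a * a = c ∧ b * b = d :=
  F.eq_of (mul_mem ha ha) (mul_mem hb hb) hc hd (by rwa [F.mul_mul ha hb] at e)

theorem Frame.invol {a b : G} (ha : a ∈ D₁) (hb : b ∈ D₂) (e : a * b * (a * b) = 1) :
    a * a = 1 ∧ b * b = 1 :=
  F.sq_eq ha hb (one_mem _) (one_mem _) (by rw [e, one_mul])

omit F in
/-- The central involutions of the Sylow subgroup and one. -/
def Zs (z₁ z₂ x : G) : Prop := x = 1 ∨ x = z₁ ∨ x = z₂ ∨ x = z₁ * z₂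

theorem Frame.z_comm : z₁ * z₂ = z₂ * z₁ := F.cm F.d₁.mem F.d₂.mem

theorem Frame.zs_symm {x : G} (hx : Zs z₂ z₁ x) : Zs z₁ z₂ x := by
  rcases hx with e | e | e | e
  · exact Or.inl e
  · exact Or.inr (Or.inr (Or.inl e))
  · exact Or.inr (Or.inl e)
  · exact Or.inr (Or.inr (Or.inr (e.trans F.z_comm.symm)))

theorem Frame.z₁_comm {x : G} (hx : x ∈ (S : Subgroup G)) : z₁ * x = x * z₁ := by
  obtain ⟨a, ha, b, hb, rfl⟩ := F.dec hx
  rw [← mul_assoc, F.d₁.central ha, mul_assoc, F.cm F.d₁.mem hb, mul_assoc]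

theorem Frame.zs_mem {c : G} (hc : Zs z₁ z₂ c) :
    c ∈ centralizer ((S : Subgroup G) : Set G) ∧ c ∈ (S : Subgroup G) ∧ c * c = 1 := by
  have h1 : z₁ ∈ centralizer ((S : Subgroup G) : Set G) :=
    mem_centralizer_iff.2 fun x hx => (F.z₁_comm hx).symm
  have h2 : z₂ ∈ centralizer ((S : Subgroup G) : Set G) :=
    mem_centralizer_iff.2 fun x hx => (F.symm.z₁_comm hx).symm
  have m1 := F.mem₁ F.d₁.mem
  have m2 := F.mem₂ F.d₂.mem
  rcases hc with rfl | rfl | rfl | rfl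
  · exact ⟨one_mem _, one_mem _, one_mul 1⟩
  · exact ⟨h1, m1, F.d₁.z_sq⟩
  · exact ⟨h2, m2, F.d₂.z_sq⟩
  · exact ⟨mul_mem h1 h2, mul_mem m1 m2,
      by rw [F.mul_mul F.d₁.mem F.d₂.mem, F.d₁.z_sq, F.d₂.z_sq, one_mul]⟩

theorem Frame.square_invol {x : G} (hx : x ∈ (S : Subgroup G)) (h2 : x * x * (x * x) = 1) :
    Zs z₁ z₂ (x * x) := by
  obtain ⟨a, ha, b, hb, rfl⟩ := F.dec hx
  rw [F.mul_mul ha hb] at h2 ⊢
  obtain ⟨e1, e2⟩ := F.invol (mul_mem ha ha) (mul_mem hb hb) h2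
  rcases F.d₁.sq_invol ha e1 with e | e <;> rcases F.d₂.sq_invol hb e2 with e' | e' <;> rw [e, e']
  · exact Or.inl (one_mul 1)
  · exact Or.inr (Or.inr (Or.inl (one_mul _)))
  · exact Or.inr (Or.inl (mul_one _))
  · exact Or.inr (Or.inr (Or.inr rfl))

theorem Frame.roots_comm {x y : G} (hx : x ∈ (S : Subgroup G)) (hy : y ∈ (S : Subgroup G))
    (ex : x * x = z₁ * z₂) (ey : y * y = z₁ * z₂) : x * y = y * x := by
  obtain ⟨a, ha, b, hb, rfl⟩ := F.dec hx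
  obtain ⟨c, hc, d, hd, rfl⟩ := F.dec hy
  obtain ⟨a2, b2⟩ := F.sq_eq ha hb F.d₁.mem F.d₂.mem ex
  obtain ⟨c2, d2⟩ := F.sq_eq hc hd F.d₁.mem F.d₂.mem ey
  exact (F.commute_iff ha hb hc hd).2
    ⟨F.d₁.comm a (F.d₁.root_of_sq ha a2) c (F.d₁.root_of_sq hc c2),
      F.d₂.comm b (F.d₂.root_of_sq hb b2) d (F.d₂.root_of_sq hd d2)⟩

omit F in
theorem conj_mem_sylow {n : G} (hn : n ∈ normalizer ((S : Subgroup G) : Set G)) {x : G}
    (hx : x ∈ (S : Subgroup G)) : n * x * n⁻¹ ∈ (S : Subgroup G) :=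
  (mem_normalizer_iff.1 hn x).1 hx

omit F in
theorem conj_mul (n x y : G) : n * x * n⁻¹ * (n * y * n⁻¹) = n * (x * y) * n⁻¹ := by group

theorem Frame.not_product_to_z₁ {n : G} (hn : n ∈ normalizer ((S : Subgroup G) : Set G)) :
    n * (z₁ * z₂) * n⁻¹ ≠ z₁ := by
  intro e
  obtain ⟨r, hr, hrz⟩ := F.d₁.root
  obtain ⟨t, ht, htR⟩ := F.d₂.refl
  obtain ⟨q, hq, hqz⟩ := F.d₂.root
  obtain ⟨ht', htR', hne⟩ := F.d₂.noncomm ht htR hq hqz
  have hrD := F.d₁.le hr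
  have h1 : r * t * (r * t) = z₁ := by rw [F.mul_mul hrD ht, hrz, F.d₂.refl_sq t ht htR, mul_one]
  have h2 : r * (t * q) * (r * (t * q)) = z₁ := by
    rw [F.mul_mul hrD ht', hrz, F.d₂.refl_sq _ ht' htR', mul_one]
  have hi := inv_mem hn
  have e' : n⁻¹ * z₁ * n⁻¹⁻¹ = z₁ * z₂ := by
    calc n⁻¹ * z₁ * n⁻¹⁻¹ = n⁻¹ * (n * (z₁ * z₂) * n⁻¹) * n⁻¹⁻¹ := by rw [e]
      _ = z₁ * z₂ := by group
  have hcomm := F.roots_comm (conj_mem_sylow hi (mul_mem (F.mem₁ hrD) (F.mem₂ ht)))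
    (conj_mem_sylow hi (mul_mem (F.mem₁ hrD) (F.mem₂ ht')))
    (by rw [conj_mul, h1]; exact e') (by rw [conj_mul, h2]; exact e')
  rw [conj_mul, conj_mul] at hcomm
  exact hne ((F.commute_iff hrD ht hrD ht').1 (mul_left_cancel (mul_right_cancel hcomm))).2

theorem Frame.fix_product {n : G} (hn : n ∈ normalizer ((S : Subgroup G) : Set G)) :
    n * (z₁ * z₂) * n⁻¹ = z₁ * z₂ := by
  obtain ⟨r, hr, hrz⟩ := F.d₁.root
  obtain ⟨q, hq, hqz⟩ := F.d₂.root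
  have hrD := F.d₁.le hr
  have hqD := F.d₂.le hq
  have hsq : r * q * (r * q) = z₁ * z₂ := by rw [F.mul_mul hrD hqD, hrz, hqz]
  have hx := conj_mem_sylow hn (mul_mem (F.mem₁ hrD) (F.mem₂ hqD))
  have h2 : n * (z₁ * z₂) * n⁻¹ * (n * (z₁ * z₂) * n⁻¹) = 1 := by
    rw [conj_mul, (F.zs_mem (Or.inr (Or.inr (Or.inr rfl)))).2.2]; group
  have hzs := F.square_invol hx (by rw [conj_mul n (r * q) (r * q), hsq]; exact h2)
  rw [conj_mul, hsq] at hzs
  rcases hzs with e | e | e | e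
  · exfalso
    have e2 : z₁ * z₂ = 1 * 1 := by rw [conj_eq_one_iff.1 e, one_mul]
    exact F.d₁.z_ne (F.eq_of F.d₁.mem F.d₂.mem (one_mem _) (one_mem _) e2).1
  · exact (F.not_product_to_z₁ hn e).elim
  · exact (F.symm.not_product_to_z₁ hn (by rw [← F.z_comm]; exact e)).elim
  · exact e

variable [Finite G]

theorem Frame.fix₁ {n : G} (hn : n ∈ normalizer ((S : Subgroup G) : Set G)) :
    n * z₁ * n⁻¹ = z₁ := by
  haveI : Fact (Nat.Prime 2) := ⟨Nat.prime_two⟩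
  obtain ⟨r, hr, hrz⟩ := F.d₁.root
  have hx := conj_mem_sylow hn (F.mem₁ (F.d₁.le hr))
  have hzs := F.square_invol hx (by
    rw [conj_mul n r r, hrz, conj_mul, F.d₁.z_sq]; group)
  rw [conj_mul, hrz] at hzs
  rcases hzs with e | e | e | e
  · exact absurd (conj_eq_one_iff.1 e) F.d₁.z_ne
  · exact e
  · exfalso
    have e2 : n * z₂ * n⁻¹ = z₁ := by
      have h1 := F.fix_product hn
      rw [← conj_mul, e] at h1
      calc n * z₂ * n⁻¹ = z₂ * (z₂ * (n * z₂ * n⁻¹)) := by rw [← mul_assoc, F.d₂.z_sq, one_mul]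
        _ = z₂ * (z₁ * z₂) := by rw [h1]
        _ = z₁ := by rw [F.z_comm, ← mul_assoc, F.d₂.z_sq, one_mul]
    have hodd : ∀ k : ℕ, n ^ (2 * k + 1) * z₁ * (n ^ (2 * k + 1))⁻¹ = z₂ := by
      intro k
      induction k with
      | zero => rw [mul_zero, zero_add, pow_one, e]
      | succ k ih =>
        have e3 : n ^ (2 * (k + 1) + 1) * z₁ * (n ^ (2 * (k + 1) + 1))⁻¹ =
            n * (n * (n ^ (2 * k + 1) * z₁ * (n ^ (2 * k + 1))⁻¹) * n⁻¹) * n⁻¹ := by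
          rw [show 2 * (k + 1) + 1 = (2 * k + 1) + 1 + 1 by ring, pow_succ' n (2 * k + 1 + 1),
            pow_succ' n (2 * k + 1)]
          group
        rw [e3, ih, e2, e]
    obtain ⟨a, b, hb, hab⟩ := Nat.exists_eq_two_pow_mul_odd (orderOf_pos n).ne'
    obtain ⟨k, hk⟩ := hb
    have hp : IsPGroup 2 (zpowers (n ^ b)) := by
      rintro ⟨x, hx⟩
      obtain ⟨j, rfl⟩ := mem_zpowers_iff.1 hx
      refine ⟨a, Subtype.ext ?_⟩
      simp only [SubmonoidClass.mk_pow, OneMemClass.coe_one]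
      rw [← zpow_natCast, ← zpow_mul, mul_comm, zpow_mul, zpow_natCast, ← pow_mul,
        mul_comm b, ← hab, pow_orderOf_eq_one, one_zpow]
    have hsup : IsPGroup 2 ↥(zpowers (n ^ b) ⊔ (S : Subgroup G)) :=
      hp.to_sup_of_normal_right' S.2 (zpowers_le.2 (pow_mem hn b))
    have hmem : n ^ b ∈ (S : Subgroup G) :=
      (S.3 hsup le_sup_right).le (mem_sup_left (mem_zpowers _))
    have e4 := hodd k
    rw [← hk, ← F.z₁_comm hmem, mul_inv_cancel_right] at e4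
    exact F.d₁.z_ne (F.eq_of F.d₁.mem (one_mem _) (one_mem _) F.d₂.mem
      (by rw [mul_one, one_mul, e4])).1
  · exfalso
    exact F.d₂.z_ne (mul_eq_left.1 (mul_left_cancel (mul_right_cancel
      ((F.fix_product hn).trans e.symm))))

/-- Fused elements of the centre are equal. -/
theorem Frame.conj_central {x y g : G} (hx : Zs z₁ z₂ x) (hy : Zs z₁ z₂ y)
    (e : g * x * g⁻¹ = y) : x = y := by
  haveI : Fact (Nat.Prime 2) := ⟨Nat.prime_two⟩
  obtain ⟨n, hn, hne⟩ :=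
    CfsgLib.Transfer.exists_mem_normalizer_conj S (F.zs_mem hx).1 (F.zs_mem hy).1 e
  rw [← hne]
  have h1 := F.fix₁ hn
  have h2 := F.symm.fix₁ hn
  rcases hx with rfl | rfl | rfl | rfl
  · group
  · exact h1.symm
  · exact h2.symm
  · exact (F.fix_product hn).symm

/-- A conjugation to the centre can carry the centralizer into the Sylow subgroup. -/
theorem Frame.to_central {x c : G} (hc : Zs z₁ z₂ c) {h : G} (e : h * x * h⁻¹ = c) :
    ∃ g, g * x * g⁻¹ = c ∧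
      ∀ y ∈ (S : Subgroup G), y * x = x * y → g * y * g⁻¹ ∈ (S : Subgroup G) := by
  haveI : Fact (Nat.Prime 2) := ⟨Nat.prime_two⟩
  set K := centralizer ({c} : Set G) with hK
  set V := ((S : Subgroup G) ⊓ centralizer ({x} : Set G)).map (MulAut.conj h).toMonoidHom with hV
  have hSK : (S : Subgroup G) ≤ K := fun s hs =>
    mem_centralizer_singleton_iff.2 (mem_centralizer_iff.1 (F.zs_mem hc).1 s hs)
  have hVK : V ≤ K := by
    rintro _ ⟨y, hy, rfl⟩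
    rw [hK, mem_centralizer_singleton_iff, ← e]
    show h * y * h⁻¹ * (h * x * h⁻¹) = h * x * h⁻¹ * (h * y * h⁻¹)
    rw [conj_mul, conj_mul, mem_centralizer_singleton_iff.1 hy.2]
  have hmax : ¬ 2 ∣ (S : Subgroup G).relIndex K := fun hd =>
    S.not_dvd_index (hd.trans (relIndex_dvd_index_of_le hSK))
  obtain ⟨k, hk, hkV⟩ := CfsgLib.Transfer.exists_conj_le_of_isPGroup S.2 hSK hmax
    (V := V) ((S.2.to_le inf_le_left).map _) hVK
  refine ⟨k⁻¹ * h, ?_, fun y hy hxy => ?_⟩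
  · have e2 : k⁻¹ * c * k = c := by
      rw [mul_assoc, ← mem_centralizer_singleton_iff.1 hk, inv_mul_cancel_left]
    rw [show k⁻¹ * h * x * (k⁻¹ * h)⁻¹ = k⁻¹ * (h * x * h⁻¹) * k by group, e, e2]
  · have := hkV (h * y * h⁻¹) ⟨y, ⟨hy, mem_centralizer_singleton_iff.2 hxy⟩, rfl⟩
    simpa [mul_assoc] using this

omit F in
/-- An element of a class with a Sylow subgroup of its centralizer in `S`. -/
theorem exists_receiver (u : G) (hu : u * u = 1) :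
    ∃ g, g * u * g⁻¹ ∈ (S : Subgroup G) ∧ ∀ t h, h * u * h⁻¹ = t → ∃ k, k * t * k⁻¹ = g * u * g⁻¹ ∧
      ∀ y ∈ (S : Subgroup G), y * t = t * y → k * y * k⁻¹ ∈ (S : Subgroup G) := by
  haveI : Fact (Nat.Prime 2) := ⟨Nat.prime_two⟩
  set K := centralizer ({u} : Set G) with hK
  obtain ⟨Q⟩ := (inferInstance : Nonempty (Sylow 2 K))
  set Q' := (Q : Subgroup K).map K.subtype with hQ'
  have hQ'p : IsPGroup 2 Q' := Q.2.map _
  have hmax : ¬ 2 ∣ Q'.relIndex K := by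
    rw [Subgroup.relIndex, hQ', Subgroup.subgroupOf,
      comap_map_eq_self_of_injective K.subtype_injective]
    exact Q.not_dvd_index
  have hQ'K : Q' ≤ K := map_subtype_le _
  have hu_mem : u ∈ Q' := by
    have hz : IsPGroup 2 (zpowers u) := fun ⟨x, hx⟩ => by
      obtain ⟨j, rfl⟩ := mem_zpowers_iff.1 hx
      refine ⟨1, Subtype.ext ?_⟩
      simp only [SubmonoidClass.mk_pow, OneMemClass.coe_one, pow_one]
      rw [← zpow_natCast, ← zpow_mul, mul_comm, zpow_mul, zpow_natCast, sq, hu, one_zpow]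
    have hn : zpowers u ≤ normalizer (Q' : Set G) := by
      rw [zpowers_le]
      refine centralizer_le_normalizer _ (mem_centralizer_iff.2 fun q hq => ?_)
      exact mem_centralizer_singleton_iff.1 (hQ'K hq)
    have hsup : IsPGroup 2 ↥(zpowers u ⊔ Q') := hz.to_sup_of_normal_right' hQ'p hn
    have hle : zpowers u ⊔ Q' ≤ K :=
      sup_le (zpowers_le.2 (mem_centralizer_singleton_iff.2 rfl)) hQ'K
    obtain ⟨k, hk, hkV⟩ := CfsgLib.Transfer.exists_conj_le_of_isPGroup hQ'p hQ'K hmax hsup hle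
    have := hkV u (mem_sup_left (mem_zpowers u))
    rwa [mul_assoc, ← mem_centralizer_singleton_iff.1 hk, inv_mul_cancel_left] at this
  obtain ⟨R, hR⟩ := hQ'p.exists_le_sylow
  obtain ⟨g, hg⟩ := MulAction.exists_smul_eq G R S
  have hgS : ∀ q ∈ Q', g * q * g⁻¹ ∈ (S : Subgroup G) := fun q hq => by
    rw [← hg]
    exact Subgroup.smul_mem_pointwise_smul q (MulAut.conj g) _ (hR hq)
  refine ⟨g, hgS u hu_mem, fun t h e => ?_⟩
  set V := ((S : Subgroup G) ⊓ centralizer ({t} : Set G)).map (MulAut.conj h⁻¹).toMonoidHom with hV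
  have hVK : V ≤ K := by
    rintro _ ⟨y, hy, rfl⟩
    rw [hK, mem_centralizer_singleton_iff,
      show u = h⁻¹ * t * h⁻¹⁻¹ by rw [← e]; group]
    show h⁻¹ * y * h⁻¹⁻¹ * (h⁻¹ * t * h⁻¹⁻¹) = h⁻¹ * t * h⁻¹⁻¹ * (h⁻¹ * y * h⁻¹⁻¹)
    rw [conj_mul, conj_mul, mem_centralizer_singleton_iff.1 hy.2]
  obtain ⟨k, hk, hkV⟩ := CfsgLib.Transfer.exists_conj_le_of_isPGroup hQ'p hQ'K hmax
    (V := V) ((S.2.to_le inf_le_left).map _) hVK
  refine ⟨g * k⁻¹ * h⁻¹, ?_, fun y hy hyt => ?_⟩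
  · have e2 : k⁻¹ * u * k = u := by
      rw [mul_assoc, ← mem_centralizer_singleton_iff.1 hk, inv_mul_cancel_left]
    rw [← e, show g * k⁻¹ * h⁻¹ * (h * u * h⁻¹) * (g * k⁻¹ * h⁻¹)⁻¹ = g * (k⁻¹ * u * k) * g⁻¹ by
      group, e2]
  · have := hgS _ (hkV (h⁻¹ * y * h⁻¹⁻¹) ⟨y, ⟨hy, mem_centralizer_singleton_iff.2 hyt⟩, rfl⟩)
    simpa [mul_assoc] using this

/-- A square root of `z₁` carried into the centralizer of `a₀ * b₀`, `a₀` a reflection. -/
theorem Frame.root_to_refl {a₀ b₀ r k : G} (ha : a₀ ∈ D₁) (haR : a₀ ∉ R₁) (hb : b₀ ∈ D₂)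
    (hr : r * r = z₁) (hk : k * r * k⁻¹ ∈ (S : Subgroup G))
    (hc : k * r * k⁻¹ * (a₀ * b₀) = a₀ * b₀ * (k * r * k⁻¹)) : False := by
  obtain ⟨a, haD, b, hbD, e⟩ := F.dec hk
  rw [← e] at hc
  have h1 := F.d₁.sq_of_commute ha haR haD ((F.commute_iff haD hbD ha hb).1 hc).1
  have h2 : k * z₁ * k⁻¹ = b * b := by
    rw [← hr, ← conj_mul, ← e, F.mul_mul haD hbD, h1, one_mul]
  have h3 : b * b * (b * b) = 1 := by rw [← h2, conj_mul, F.d₁.z_sq]; group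
  rcases F.d₂.sq_invol hbD h3 with e' | e'
  · exact F.d₁.z_ne (conj_eq_one_iff.1 (h2.trans e'))
  · have h4 := F.conj_central (Or.inr (Or.inl rfl)) (Or.inr (Or.inr (Or.inl rfl))) (h2.trans e')
    exact F.d₁.z_ne (F.eq_of F.d₁.mem (one_mem _) (one_mem _) F.d₂.mem
      (by rw [mul_one, one_mul, h4])).1

/-- A reflection of the first factor is fused to the centre. -/
theorem Frame.refl_central (hG : ∀ N : Subgroup G, N.Normal → N.index ≠ 2) {s : G} (hs : s ∈ D₁)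
    (hsR : s ∉ R₁) : ∃ c h, Zs z₁ z₂ c ∧ h * s * h⁻¹ = c := by
  haveI : Fact (Nat.Prime 2) := ⟨Nat.prime_two⟩
  have hs2 := F.d₁.refl_sq s hs hsR
  have hs1 : s ≠ 1 := fun e => hsR (e ▸ one_mem _)
  set T := R₁ ⊔ D₂ with hT
  have hTmem : ∀ {a b : G}, a ∈ D₁ → b ∈ D₂ → (a * b ∈ T ↔ a ∈ R₁) := by
    intro a b ha hb
    refine ⟨fun h => ?_, fun h => mul_mem (mem_sup_left h) (mem_sup_right hb)⟩
    rw [hT, ← SetLike.mem_coe, coe_mul_of_left_le_normalizer_right R₁ D₂ (fun x hx =>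
      centralizer_le_normalizer _ (mem_centralizer_iff.2 fun y hy =>
        (F.cm (F.d₁.le hx) hy).symm))] at h
    obtain ⟨a', ha', b', hb', e⟩ := Set.mem_mul.1 h
    exact (F.eq_of (F.d₁.le ha') hb' ha hb e).1 ▸ ha'
  have hTS : T ≤ (S : Subgroup G) := sup_le (F.d₁.le.trans F.dp.1) F.dp.2.1
  have hidx : T.relIndex (S : Subgroup G) = 2 := by
    rw [Subgroup.relIndex, Subgroup.index_eq_two_iff]
    refine ⟨⟨s, F.mem₁ hs⟩, fun x => ?_⟩
    obtain ⟨a, ha, b, hb, e⟩ := F.dec x.2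
    rw [mem_subgroupOf, mem_subgroupOf, coe_mul, ← e,
      show a * b * s = a * s * b by rw [mul_assoc, ← F.cm hs hb, mul_assoc],
      hTmem (mul_mem ha hs) hb, hTmem ha hb]
    by_cases hA : a ∈ R₁
    · exact Or.inr ⟨hA, fun h => hsR (by simpa using mul_mem (inv_mem hA) h)⟩
    · exact Or.inl ⟨F.d₁.prod_refl a ha s hs hA hsR, hA⟩
  obtain ⟨g₁, hg₁⟩ : ∃ g, g * s * g⁻¹ ∈ T := by
    by_contra hno
    push Not at hno
    have ho : orderOf s = 2 := orderOf_eq_prime (by rw [sq, hs2]) hs1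
    obtain ⟨M, hM, hM2, -⟩ :=
      CfsgLib.Transfer.exists_index_two_of_not_conj_mem S hTS hidx ho hno
    exact hG M hM hM2
  by_contra hnc
  push Not at hnc
  have conjsq : ∀ g : G, g * s * g⁻¹ * (g * s * g⁻¹) = 1 := fun g => by
    rw [conj_mul, hs2]; group
  -- the element `t` in `T`
  obtain ⟨a, ha, b, hb, et⟩ := F.dec (hTS hg₁)
  have haR : a ∈ R₁ := (hTmem ha hb).1 (et ▸ hg₁)
  obtain ⟨ha2, hb2⟩ := F.invol ha hb (by rw [et]; exact conjsq g₁)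
  have hbR : b ∉ R₂ := by
    intro hbR
    rcases F.d₁.invol a haR ha2 with ea | ea <;>
      rcases F.d₂.invol b hbR hb2 with eb | eb <;> rw [ea, eb] at et
    · exact hs1 (conj_eq_one_iff.1 (et.symm.trans (one_mul 1)))
    · exact hnc z₂ g₁ (Or.inr (Or.inr (Or.inl rfl))) (et.symm.trans (one_mul _))
    · exact hnc z₁ g₁ (Or.inr (Or.inl rfl)) (et.symm.trans (mul_one _))
    · exact hnc _ g₁ (Or.inr (Or.inr (Or.inr rfl))) et.symm
  -- the receiver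
  obtain ⟨g, hgS, hrec⟩ := exists_receiver (S := S) s hs2
  obtain ⟨a₀, ha₀, b₀, hb₀, e₀⟩ := F.dec hgS
  obtain ⟨ha₀2, hb₀2⟩ := F.invol ha₀ hb₀ (by rw [e₀]; exact conjsq g)
  obtain ⟨k₁, hk₁, hk₁S⟩ := hrec (g₁ * s * g₁⁻¹) g₁ rfl
  obtain ⟨k, hk, hkS⟩ := hrec s 1 (by group)
  have hconjc : ∀ {k t y : G}, k * t * k⁻¹ = g * s * g⁻¹ → y * t = t * y →
      k * y * k⁻¹ * (a₀ * b₀) = a₀ * b₀ * (k * y * k⁻¹) := by
    intro k t y hkt hy
    rw [e₀, ← hkt, conj_mul, conj_mul, hy]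
  by_cases hA : a₀ ∈ R₁
  · by_cases hB : b₀ ∈ R₂
    · rcases F.d₁.invol a₀ hA ha₀2 with ea | ea <;>
        rcases F.d₂.invol b₀ hB hb₀2 with eb | eb <;> rw [ea, eb] at e₀
      · exact hs1 (conj_eq_one_iff.1 (e₀.symm.trans (one_mul 1)))
      · exact hnc z₂ g (Or.inr (Or.inr (Or.inl rfl))) (e₀.symm.trans (one_mul _))
      · exact hnc z₁ g (Or.inr (Or.inl rfl)) (e₀.symm.trans (mul_one _))
      · exact hnc _ g (Or.inr (Or.inr (Or.inr rfl))) e₀.symm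
    · -- a square root of `z₂` centralizes `s`
      obtain ⟨q, hq, hqz⟩ := F.d₂.root
      have hqD := F.d₂.le hq
      have hqs : q * s = s * q := (F.cm hs hqD).symm
      refine F.symm.root_to_refl (a₀ := b₀) (b₀ := a₀) hb₀ hB ha₀ hqz
        (hkS q (F.mem₂ hqD) hqs) ?_
      rw [← F.cm ha₀ hb₀]
      exact hconjc hk hqs
  · by_cases hB : b₀ ∈ R₂
    · -- a square root of `z₁` centralizes `t`
      obtain ⟨r, hr, hrz⟩ := F.d₁.root
      have hrD := F.d₁.le hr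
      have hrt : r * (g₁ * s * g₁⁻¹) = g₁ * s * g₁⁻¹ * r := by
        rw [← et, ← mul_assoc, F.d₁.comm r hr a haR, mul_assoc, F.cm hrD hb, mul_assoc]
      exact F.root_to_refl ha₀ hA hb₀ hrz (hk₁S r (F.mem₁ hrD) hrt) (hconjc hk₁ hrt)
    · -- two non-commuting reflections centralize `s`
      obtain ⟨t, ht, htR⟩ := F.d₂.refl
      obtain ⟨q, hq, hqz⟩ := F.d₂.root
      obtain ⟨ht', htR', hne⟩ := F.d₂.noncomm ht htR hq hqz
      obtain ⟨c, hc, d, hd, ey⟩ := F.dec (hkS t (F.mem₂ ht) (F.cm hs ht).symm)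
      obtain ⟨c', hc', d', hd', ey'⟩ := F.dec (hkS _ (F.mem₂ ht') (F.cm hs ht').symm)
      have p1 := hconjc hk (F.cm hs ht).symm
      have p2 := hconjc hk (F.cm hs ht').symm
      rw [← ey, F.commute_iff hc hd ha₀ hb₀] at p1
      rw [← ey', F.commute_iff hc' hd' ha₀ hb₀] at p2
      have hcom := (F.commute_iff hc hd hc' hd').2
        ⟨F.d₁.comm_of_commute ha₀ hA hc hc' p1.1 p2.1,
          F.d₂.comm_of_commute hb₀ hB hd hd' p1.2 p2.2⟩
      rw [ey, ey', conj_mul, conj_mul] at hcom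
      exact hne (mul_left_cancel (mul_right_cancel hcom))

omit F in
theorem isConj_mk {x y g : G} (e : g * x * g⁻¹ = y) : IsConj x y := isConj_iff.2 ⟨g, e⟩

/-- Exactly one of `s`, `s z₂` is fused to `z₁`, the other to `z₁ z₂`. -/
theorem Frame.refl_pair (hG : ∀ N : Subgroup G, N.Normal → N.index ≠ 2) {s : G} (hs : s ∈ D₁)
    (hsR : s ∉ R₁) : (IsConj s z₁ ∧ IsConj (s * z₂) (z₁ * z₂)) ∨
      (IsConj s (z₁ * z₂) ∧ IsConj (s * z₂) z₁) := by
  obtain ⟨c, h, hc, e⟩ := F.refl_central hG hs hsR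
  obtain ⟨g, hg, hgS⟩ := F.to_central hc e
  obtain ⟨q, hq, hqz⟩ := F.d₂.root
  have hqD := F.d₂.le hq
  have h1 := hgS q (F.mem₂ hqD) (F.cm hs hqD).symm
  have h2 : g * q * g⁻¹ * (g * q * g⁻¹) = g * z₂ * g⁻¹ := by rw [conj_mul, hqz]
  have h3 : Zs z₁ z₂ (g * z₂ * g⁻¹) := by
    rw [← h2]
    exact F.square_invol h1 (by rw [h2, conj_mul, F.d₂.z_sq]; group)
  have h4 := F.conj_central (Or.inr (Or.inr (Or.inl rfl))) h3 rfl
  have h5 : g * (s * z₂) * g⁻¹ = c * z₂ := by rw [← conj_mul, hg, ← h4]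
  rcases hc with ec | ec | ec | ec <;> rw [ec] at hg h5
  · exact absurd (conj_eq_one_iff.1 hg) fun e => hsR (e ▸ one_mem _)
  · exact Or.inl ⟨isConj_mk hg, isConj_mk h5⟩
  · exfalso
    have e' : s = z₂ := mul_left_cancel (mul_right_cancel (hg.trans h4))
    exact hsR ((F.eq_of hs (one_mem _) (one_mem _) F.d₂.mem (by rw [mul_one, one_mul, e'])).1 ▸
      one_mem _)
  · rw [mul_assoc z₁, F.d₂.z_sq, mul_one] at h5
    exact Or.inr ⟨isConj_mk hg, isConj_mk h5⟩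

theorem Frame.not_both {x : G} (h1 : IsConj x z₁) (h2 : IsConj x (z₁ * z₂)) : False := by
  obtain ⟨g, hg⟩ := isConj_iff.1 (h1.symm.trans h2)
  have e := F.conj_central (Or.inr (Or.inl rfl)) (Or.inr (Or.inr (Or.inr rfl))) hg
  exact F.d₂.z_ne (mul_eq_left.1 e.symm)

theorem Frame.not_one_two {x : G} (h1 : IsConj x z₁) (h2 : IsConj x z₂) : False := by
  obtain ⟨g, hg⟩ := isConj_iff.1 (h1.symm.trans h2)
  have e := F.conj_central (Or.inr (Or.inl rfl)) (Or.inr (Or.inr (Or.inl rfl))) hg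
  exact F.d₁.z_ne (F.eq_of F.d₁.mem (one_mem _) (one_mem _) F.d₂.mem
    (by rw [mul_one, one_mul, e])).1

/-! ### With the coordinates chosen: every reflection is fused to the centre of its factor -/

variable (hG : ∀ N : Subgroup G, N.Normal → N.index ≠ 2)
  (h₁ : ∀ s ∈ D₁, s ∉ R₁ → IsConj s z₁) (h₂ : ∀ t ∈ D₂, t ∉ R₂ → IsConj t z₂)
include hG h₁ h₂

theorem Frame.fst {a : G} (ha : a ∈ D₁) (h2 : a * a = 1) (hne : a ≠ 1) :
    IsConj a z₁ ∧ IsConj (a * z₂) (z₁ * z₂) := by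
  rcases F.d₁.invol_cases ha h2 with rfl | rfl | h
  · exact absurd rfl hne
  · exact ⟨IsConj.refl _, IsConj.refl _⟩
  · exact (F.refl_pair hG ha h).elim id fun e => (F.not_both (h₁ a ha h) e.1).elim

theorem Frame.mixed {a b : G} (ha : a ∈ D₁) (hb : b ∈ D₂) (ha2 : a * a = 1) (hb2 : b * b = 1)
    (ha1 : a ≠ 1) (hb1 : b ≠ 1) (hrefl : a ∈ R₁ ∨ b ∈ R₂) : IsConj (a * b) (z₁ * z₂) := by
  rcases hrefl with hR | hR
  · obtain rfl := (F.d₁.invol a hR ha2).resolve_left ha1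
    rw [F.cm ha hb, F.z_comm]
    exact (F.symm.fst hG h₂ h₁ hb hb2 hb1).2
  · obtain rfl := (F.d₂.invol b hR hb2).resolve_left hb1
    exact (F.fst hG h₁ h₂ ha ha2 ha1).2

theorem Frame.half {s t : G} (hs : s ∈ D₁) (hsR : s ∉ R₁) (ht : t ∈ D₂) (htR : t ∉ R₂) :
    IsConj (s * t) (z₁ * z₂) ∨ IsConj (s * t) z₂ := by
  obtain ⟨h, hh⟩ := isConj_iff.1 (h₁ s hs hsR)
  obtain ⟨g, hg, hgS⟩ := F.to_central (Or.inr (Or.inl rfl)) hh
  obtain ⟨a, ha, b, hb, e⟩ := F.dec (hgS t (F.mem₂ ht) (F.cm hs ht).symm)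
  have ht2 := F.d₂.refl_sq t ht htR
  obtain ⟨ha2, hb2⟩ := F.invol ha hb (by rw [e, conj_mul, ht2]; group)
  have hwz : IsConj (a * b) z₂ := ((isConj_mk e.symm).symm).trans (h₂ t ht htR)
  have hst : IsConj (s * t) (z₁ * (a * b)) := isConj_mk (by rw [← conj_mul, hg, e])
  by_cases hb1 : b = 1
  · subst hb1
    rw [mul_one] at hwz
    by_cases ha1 : a = 1
    · subst ha1
      exact absurd (isConj_one_right.1 hwz) F.d₂.z_ne
    · exact (F.not_one_two (F.fst hG h₁ h₂ ha ha2 ha1).1 hwz).elim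
  by_cases ha1 : a = 1
  · subst ha1
    rw [one_mul] at hst
    exact Or.inl (hst.trans
      (F.mixed hG h₁ h₂ F.d₁.mem hb F.d₁.z_sq hb2 F.d₁.z_ne hb1 (Or.inl F.d₁.mem_z)))
  by_cases hrefl : a ∈ R₁ ∨ b ∈ R₂
  · exfalso
    have h3 : IsConj z₂ (z₁ * z₂) := hwz.symm.trans (F.mixed hG h₁ h₂ ha hb ha2 hb2 ha1 hb1 hrefl)
    exact F.symm.not_both (IsConj.refl z₂) (by rwa [← F.z_comm])
  push Not at hrefl
  refine Or.inr (hst.trans (IsConj.trans ?_ hwz))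
  obtain ⟨r, hr, hrz⟩ := F.d₁.root
  refine (isConj_mk (g := r) ?_).symm
  have e1 : a * r⁻¹ = r * a := by
    rw [← F.d₁.refl_inv a ha hrefl.1 r hr, inv_eq_of_mul_eq_one_right ha2, ← mul_assoc,
      ← mul_assoc, ha2, one_mul]
  calc r * (a * b) * r⁻¹ = r * (a * (b * r⁻¹)) := by group
    _ = r * (a * r⁻¹) * b := by rw [← F.cm (inv_mem (F.d₁.le hr)) hb]; group
    _ = r * r * a * b := by rw [e1]; group
    _ = z₁ * (a * b) := by rw [hrz, mul_assoc]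

/-- The class of an involution of `S`. -/
theorem Frame.classify {a b : G} (ha : a ∈ D₁) (hb : b ∈ D₂) (ha2 : a * a = 1) (hb2 : b * b = 1) :
    (b = 1 ∧ (a = 1 ∨ IsConj (a * b) z₁)) ∨ (a = 1 ∧ b ≠ 1 ∧ IsConj (a * b) z₂) ∨
      (a ≠ 1 ∧ b ≠ 1 ∧ IsConj (a * b) (z₁ * z₂)) := by
  by_cases hb1 : b = 1
  · refine Or.inl ⟨hb1, (em (a = 1)).imp id fun ha1 => ?_⟩
    rw [hb1, mul_one]
    exact (F.fst hG h₁ h₂ ha ha2 ha1).1
  by_cases ha1 : a = 1
  · refine Or.inr (Or.inl ⟨ha1, hb1, ?_⟩)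
    rw [ha1, one_mul]
    exact (F.symm.fst hG h₂ h₁ hb hb2 hb1).1
  refine Or.inr (Or.inr ⟨ha1, hb1, ?_⟩)
  by_cases hrefl : a ∈ R₁ ∨ b ∈ R₂
  · exact F.mixed hG h₁ h₂ ha hb ha2 hb2 ha1 hb1 hrefl
  push Not at hrefl
  rcases F.half hG h₁ h₂ ha hrefl.1 hb hrefl.2 with e | e
  · exact e
  · rcases F.symm.half hG h₂ h₁ hb hrefl.2 ha hrefl.1 with e' | e'
    · rwa [← F.cm ha hb, ← F.z_comm] at e'
    · rw [← F.cm ha hb] at e'
      exact (F.not_one_two e' e).elim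

theorem Frame.invClosed : InvClosed D₁ (S : Subgroup G) := by
  intro x hx hx2 g hg
  by_cases hx1 : x = 1
  · subst hx1; simp
  have hxz := (F.fst hG h₁ h₂ hx hx2 hx1).1
  obtain ⟨a, ha, b, hb, e⟩ := F.dec hg
  obtain ⟨ha2, hb2⟩ := F.invol ha hb (by rw [e, conj_mul, hx2]; group)
  have hy : IsConj (a * b) z₁ := (isConj_mk e.symm).symm.trans hxz
  rcases F.classify hG h₁ h₂ ha hb ha2 hb2 with ⟨hb1, -⟩ | ⟨-, -, h⟩ | ⟨-, -, h⟩
  · rw [← e, hb1, mul_one]; exact ha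
  · exact (F.not_one_two hy h).elim
  · exact (F.not_both hy h).elim

end Big

end CfsgLib.DihedralPairFusion
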