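import Cfsg.Agent.Lib.DihedralPairFusion.Interface
import Cfsg.Agent.Lib.Transfer.Alperin
import Cfsg.Agent.Lib.Fusion.SylowAux
import Cfsg.Agent.Lib.Coprime.Action2
import Cfsg.Agent.Lib.PGroups.Basic

/-!
# Closure for involutions is strong closure (piece C of `tools/S3113_plan.md`)

By Alperin's theorem it is enough that the normalizer of each tame subgroup `D` maps `D ⊓ S₁` into
`S₁`. A subgroup of `S₁` containing a reflection is generated by involutions; a subgroup of rotations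
of order at least four gives a normal subgroup of `N(D)` acting on `D` as a 2-group and not contained
in `D`, so the Frattini argument reduces to larger subgroups.
-/

set_option autoImplicit false
set_option linter.unusedSectionVars false
set_option linter.style.haveILetI false

open Cfsg Subgroup

namespace CfsgLib.DihedralPairFusion

namespace Close

universe u

variable {G : Type u} [Group G] [Finite G] (P : Sylow 2 G) (S₁ : Subgroup G)

/-- Conjugation by `g` maps `E ⊓ S₁` into `S₁`. -/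
def Maps (g : G) (E : Subgroup G) : Prop := ∀ x ∈ E, x ∈ S₁ → g * x * g⁻¹ ∈ S₁

/-- The statement for the normalizer of `D`. -/
def Good (D : Subgroup G) : Prop := ∀ n ∈ normalizer (D : Set G), Maps S₁ n D

/-- `D` is tame in `P`. -/
def Tame (D : Subgroup G) : Prop :=
  D ≤ (P : Subgroup G) ∧
    ¬ 2 ∣ ((P : Subgroup G) ⊓ normalizer (D : Set G)).relIndex (normalizer (D : Set G))

/-- The statement for all maps defined on `E`. -/
def Mor (E : Subgroup G) : Prop :=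
  ∀ g : G, (∀ e ∈ E, g * e * g⁻¹ ∈ (P : Subgroup G)) → Maps S₁ g E

variable {P S₁}

theorem conj_mem_iff {D : Subgroup G} {n x : G} (hn : n ∈ normalizer (D : Set G)) :
    n * x * n⁻¹ ∈ D ↔ x ∈ D := ((mem_set_normalizer_iff.mp hn) x).symm

theorem chain_maps {A : Set G} {g : G} (h : CfsgLib.Transfer.FusionChain P A g) :
    ∀ k : ℕ, (∀ D, Tame P D → k ≤ Nat.card D → Good S₁ D) → k ≤ Nat.card A →
      ∀ x ∈ A, x ∈ S₁ → g⁻¹ * x * g ∈ S₁ := by
  induction h with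
  | nil A => intro k _ _ x _ hx; simpa using hx
  | @cons A g Q x hxN hP hQ hA _ ih =>
    intro k hk hA' a ha haS
    have hcard : k ≤ Nat.card ((P : Subgroup G) ⊓ (Q : Subgroup G) : Subgroup G) :=
      hA'.trans (Nat.card_mono (Set.toFinite _) hA)
    have h1 := hk _ ⟨inf_le_left, hP⟩ hcard x⁻¹ (inv_mem hxN) a (hA ha) haS
    rw [inv_inv] at h1
    have h2 := ih k hk (by
      rwa [Nat.card_image_of_injective (fun p q hpq => mul_left_cancel (mul_right_cancel hpq))])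
      _ ⟨a, ha, rfl⟩ h1
    simpa [mul_assoc] using h2

theorem mor_of_good {k : ℕ} (hk : ∀ D, Tame P D → k ≤ Nat.card D → Good S₁ D) {E : Subgroup G}
    (hE : E ≤ (P : Subgroup G)) (hkE : k ≤ Nat.card E) : Mor P S₁ E := by
  intro g hg x hx hxS
  haveI : Fact (Nat.Prime 2) := ⟨Nat.prime_two⟩
  have h := CfsgLib.Transfer.fusionChain P (A := (E : Set G)) (g := g⁻¹) hE
    (fun a ha => by rw [inv_inv]; exact hg a ha)
  have := chain_maps h k hk hkE x hx hxS
  rwa [inv_inv] at this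

/-- The Frattini argument: a normal subgroup of `N(D)` acting on `D` as a 2-group and with Sylow
subgroup outside `D` reduces `D` to larger subgroups. -/
theorem reduce (hnorm : ∀ p ∈ (P : Subgroup G), ∀ a ∈ S₁, p * a * p⁻¹ ∈ S₁) {D M : Subgroup G}
    (hD : Tame P D) (hMN : M ≤ normalizer (D : Set G))
    (hMn : ∀ n ∈ normalizer (D : Set G), ∀ m ∈ M, n * m * n⁻¹ ∈ M)
    (hodd : ∀ m ∈ M, Odd (orderOf m) → ∀ d ∈ D, m * d = d * m)
    (hT : ∃ t ∈ (P : Subgroup G), t ∈ M ∧ t ∉ D)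
    (ih : ∀ E, E ≤ (P : Subgroup G) → D < E → Mor P S₁ E) : Good S₁ D := by
  haveI : Fact (Nat.Prime 2) := ⟨Nat.prime_two⟩
  set N := normalizer (D : Set G) with hN
  set T := (P : Subgroup G) ⊓ M with hTdef
  have hTp : IsPGroup 2 T := P.2.to_le inf_le_left
  have hPN : CfsgLib.Fusion.IsSylIn 2 ((P : Subgroup G) ⊓ N) N := by
    rw [← CfsgLib.Fusion.exists_sylow_iff inf_le_right]
    exact ⟨IsPGroup.toSylow ((P.2.to_le inf_le_left).comap_subtype) hD.2, rfl⟩
  have hTM : CfsgLib.Fusion.IsSylIn 2 T M := by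
    refine ⟨inf_le_right, hTp, fun C hC hTC hCM => ?_⟩
    obtain ⟨b, hb, hbC⟩ := hPN.exists_conj_le hC (hCM.trans hMN)
    have hle : C.map (MulAut.conj b).toMonoidHom ≤ T := by
      rintro _ ⟨c, hc, rfl⟩
      exact ⟨(hbC c hc).1, hMn b hb c (hCM hc)⟩
    refine (eq_of_le_of_card_ge hTC ?_).symm
    calc Nat.card C = Nat.card (C.map (MulAut.conj b).toMonoidHom) :=
          Nat.card_congr (C.equivMapOfInjective _ (MulAut.conj b).injective).toEquiv
      _ ≤ Nat.card T := card_le_of_le hle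
  -- the elements of `N(D)` keeping `D ⊓ S₁` in `S₁`
  let H : Subgroup G :=
    { carrier := {m | m ∈ N ∧ ∀ y, y ∈ D → (m * y * m⁻¹ ∈ S₁ ↔ y ∈ S₁)}
      one_mem' := ⟨one_mem _, fun y _ => by simp⟩
      mul_mem' := fun {a b} ha hb => ⟨mul_mem ha.1 hb.1, fun y hy => by
        rw [show a * b * y * (a * b)⁻¹ = a * (b * y * b⁻¹) * a⁻¹ by group,
          ha.2 _ ((conj_mem_iff hb.1).2 hy), hb.2 y hy]⟩
      inv_mem' := fun {a} ha => ⟨inv_mem ha.1, fun y hy => by
        have := ha.2 (a⁻¹ * y * a⁻¹⁻¹) ((conj_mem_iff (inv_mem ha.1)).2 hy)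
        rw [show a * (a⁻¹ * y * a⁻¹⁻¹) * a⁻¹ = y by group] at this
        exact this.symm⟩ }
  have hMH : M ≤ H := by
    rw [← subgroupOf_eq_top, ← index_eq_one]
    by_contra hne
    obtain ⟨q, hq, hdvd⟩ := Nat.exists_prime_and_dvd hne
    haveI := Fact.mk hq
    rcases hq.eq_two_or_odd' with rfl | hodd2
    · obtain ⟨R, hR⟩ := (CfsgLib.Fusion.exists_sylow_iff inf_le_right).2 hTM
      have hTH : T.subgroupOf M ≤ H.subgroupOf M := by
        intro t ht
        refine ⟨hMN t.2, fun y hy => ⟨fun h => ?_, fun h => hnorm _ ht.1 _ h⟩⟩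
        have := hnorm _ (inv_mem ht.1) _ h
        simpa [mul_assoc] using this
      exact R.not_dvd_index (hdvd.trans (hR ▸ index_dvd_of_le hTH))
    · obtain ⟨R⟩ : Nonempty (Sylow q M) := inferInstance
      have hRH : (R : Subgroup M) ≤ H.subgroupOf M := by
        intro t ht
        refine ⟨hMN t.2, fun y hy => ?_⟩
        obtain ⟨k, hk⟩ := (IsPGroup.iff_orderOf.mp R.2) ⟨t, ht⟩
        have ho : Odd (orderOf (t : G)) := by
          rw [Subgroup.orderOf_coe, ← Subgroup.orderOf_coe (H := (R : Subgroup M)) ⟨t, ht⟩] at *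
          rw [hk]
          exact hodd2.pow
        show (t : G) * y * (t : G)⁻¹ ∈ S₁ ↔ y ∈ S₁
        rw [hodd t t.2 ho y hy, mul_inv_cancel_right]
      exact R.not_dvd_index (hdvd.trans (index_dvd_of_le hRH))
  intro n hn x hx hxS
  have hCp : IsPGroup 2 (T.map (MulAut.conj n).toMonoidHom) := hTp.map _
  have hCM : T.map (MulAut.conj n).toMonoidHom ≤ M := by
    rintro _ ⟨c, hc, rfl⟩
    exact hMn n hn c hc.2
  obtain ⟨b, hb, hbT⟩ := hTM.exists_conj_le hCp hCM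
  have hbn : b * n ∈ N := mul_mem (hMN hb) hn
  have hbnT : ∀ t ∈ T, b * n * t * (b * n)⁻¹ ∈ T := by
    intro t ht
    have := hbT _ ⟨t, ht, rfl⟩
    simpa [MulAut.conj_apply, mul_assoc] using this
  have hE : D ⊔ T ≤ (P : Subgroup G) := sup_le hD.1 inf_le_left
  have hlt : D < D ⊔ T := by
    refine lt_of_le_of_ne le_sup_left fun e => ?_
    obtain ⟨t, htP, htM, htD⟩ := hT
    exact htD (e.symm ▸ mem_sup_right (show t ∈ T from ⟨htP, htM⟩))
  have hbnE : ∀ e ∈ D ⊔ T, b * n * e * (b * n)⁻¹ ∈ (P : Subgroup G) := by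
    have h : D ⊔ T ≤ (P : Subgroup G).comap (MulAut.conj (b * n)).toMonoidHom :=
      sup_le (fun d hd => hD.1 ((conj_mem_iff hbn).2 hd)) fun t ht => (hbnT t ht).1
    exact fun e he => h he
  have h1 := ih _ hE hlt (b * n) hbnE x (mem_sup_left hx) hxS
  have h2 := (hMH (inv_mem hb)).2 _ ((conj_mem_iff hbn).2 hx)
  rw [show b⁻¹ * (b * n * x * (b * n)⁻¹) * b⁻¹⁻¹ = n * x * n⁻¹ by group] at h2
  exact h2.2 h1

/-- Generators of a dihedral factor. -/
structure Dih (S₁ : Subgroup G) (r s : G) : Prop where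
  hr : r ∈ S₁
  hs : s ∈ S₁
  cover : ∀ a ∈ S₁, (∃ i : ℕ, a = r ^ i) ∨ ∃ i : ℕ, a = s * r ^ i
  ss : s * s = 1
  flip : ∀ i : ℕ, s * r ^ i * s = (r ^ i)⁻¹

theorem exists_dih {m : ℕ} (hm : m ≠ 0) (e : S₁ ≃* DihedralGroup m) : ∃ r s, Dih S₁ r s := by
  haveI := NeZero.mk hm
  have hpow : ∀ i : ℕ, ((e.symm (DihedralGroup.r 1) : S₁) : G) ^ i =
      (e.symm (DihedralGroup.r (i : ZMod m)) : G) := fun i => by
    rw [← SubmonoidClass.coe_pow, ← map_pow, DihedralGroup.r_one_pow]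
  refine ⟨(e.symm (DihedralGroup.r 1) : G), (e.symm (DihedralGroup.sr 0) : G), SetLike.coe_mem _,
    SetLike.coe_mem _, fun a ha => ?_, ?_, fun i => ?_⟩
  · rcases hc : e ⟨a, ha⟩ with i | i
    · refine .inl ⟨i.val, ?_⟩
      rw [hpow, ZMod.natCast_zmod_val, ← hc, MulEquiv.symm_apply_apply]
    · refine .inr ⟨i.val, ?_⟩
      rw [hpow, ← Subgroup.coe_mul, ← map_mul, ZMod.natCast_zmod_val, DihedralGroup.sr_mul_r,
        zero_add, ← hc, MulEquiv.symm_apply_apply]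
  · rw [← Subgroup.coe_mul, ← map_mul, DihedralGroup.sr_mul_sr, sub_zero, DihedralGroup.r_zero,
      map_one, Subgroup.coe_one]
  · rw [hpow, ← Subgroup.coe_mul, ← map_mul, ← Subgroup.coe_mul, ← map_mul, ← Subgroup.coe_inv,
      ← map_inv, DihedralGroup.sr_mul_r, DihedralGroup.sr_mul_sr, DihedralGroup.inv_r]
    simp

variable {r s : G}

theorem Dih.refl_sq (h : Dih S₁ r s) (i : ℕ) : s * r ^ i * (s * r ^ i) = 1 := by
  rw [← mul_assoc, h.flip, inv_mul_cancel]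

theorem Dih.refl_inv (h : Dih S₁ r s) (i : ℕ) : (s * r ^ i)⁻¹ = s * r ^ i :=
  inv_eq_of_mul_eq_one_right (h.refl_sq i)

theorem Dih.conj_refl (h : Dih S₁ r s) (c i : ℕ) :
    r ^ c * (s * r ^ i) * (r ^ c)⁻¹ * (s * r ^ i)⁻¹ = r ^ c * r ^ c := by
  have h1 : (r ^ c)⁻¹ * (s * r ^ i)⁻¹ = s * r ^ i * r ^ c := by
    rw [← mul_inv_rev, show s * r ^ i * r ^ c = s * r ^ (i + c) by rw [pow_add, mul_assoc],
      h.refl_inv]
  rw [mul_assoc _ (r ^ c)⁻¹, h1, mul_assoc, ← mul_assoc (s * r ^ i) (s * r ^ i), h.refl_sq, one_mul]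

/-- An invariant subgroup of `D` on whose elements the stabilizer acts trivially. -/
theorem good_of_chain (hnorm : ∀ p ∈ (P : Subgroup G), ∀ a ∈ S₁, p * a * p⁻¹ ∈ S₁) {D X : Subgroup G}
    (hD : Tame P D) (ih : ∀ E, E ≤ (P : Subgroup G) → D < E → Mor P S₁ E) (hXD : X ≤ D)
    (hXn : ∀ n ∈ normalizer (D : Set G), ∀ x ∈ X, n * x * n⁻¹ ∈ X) {y : G}
    (hyP : y ∈ (P : Subgroup G)) (hyD : y ∉ D) (hyX : ∀ d ∈ D, y * d * y⁻¹ * d⁻¹ ∈ X)
    (hyc : ∀ x ∈ X, y * x = x * y) : Good S₁ D := by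
  have hyN : y ∈ normalizer (D : Set G) := by
    refine mem_normalizer_fintype fun d hd => ?_
    have := mul_mem (hXD (hyX d hd)) hd
    rwa [show y * d * y⁻¹ * d⁻¹ * d = y * d * y⁻¹ by group] at this
  let M : Subgroup G :=
    { carrier := {m | m ∈ normalizer (D : Set G) ∧ (∀ d ∈ D, m * d * m⁻¹ * d⁻¹ ∈ X) ∧
        ∀ x ∈ X, m * x = x * m}
      one_mem' := ⟨one_mem _, fun d _ => by simp, fun x _ => by simp⟩
      mul_mem' := fun {a b} ha hb => ⟨mul_mem ha.1 hb.1, fun d hd => by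
          have e1 := hb.2.1 d hd
          have := mul_mem e1 (ha.2.1 d hd)
          rw [show a * b * d * (a * b)⁻¹ * d⁻¹ =
              a * (b * d * b⁻¹ * d⁻¹) * a⁻¹ * (a * d * a⁻¹ * d⁻¹) by group, ha.2.2 _ e1,
            mul_inv_cancel_right]
          exact this,
        fun x hx => by rw [mul_assoc, hb.2.2 x hx, ← mul_assoc, ha.2.2 x hx, mul_assoc]⟩
      inv_mem' := fun {a} ha => ⟨inv_mem ha.1, fun d hd => by
          have := inv_mem (ha.2.1 (a⁻¹ * d * a⁻¹⁻¹) ((conj_mem_iff (inv_mem ha.1)).2 hd))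
          rw [show (a * (a⁻¹ * d * a⁻¹⁻¹) * a⁻¹ * (a⁻¹ * d * a⁻¹⁻¹)⁻¹)⁻¹ =
            a⁻¹ * d * a⁻¹⁻¹ * d⁻¹ by group] at this
          exact this,
        fun x hx => ((show Commute a x from ha.2.2 x hx).inv_left).eq⟩ }
  refine reduce hnorm hD (M := M) (fun m hm => hm.1) ?_ ?_ ⟨y, hyP, ⟨hyN, hyX, hyc⟩, hyD⟩ ih
  · intro n hn m hm
    refine ⟨mul_mem (mul_mem hn hm.1) (inv_mem hn), fun d hd => ?_, fun x hx => ?_⟩
    · have := hXn n hn _ (hm.2.1 _ ((conj_mem_iff (inv_mem hn)).2 hd))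
      convert this using 1
      group
    · have := congrArg (fun z => n * z * n⁻¹) (hm.2.2 _ (hXn n⁻¹ (inv_mem hn) x hx))
      convert this using 1 <;> group
  · intro m hm ho d hd
    obtain ⟨e, he⟩ : ∃ e, m * d * m⁻¹ * d⁻¹ = e := ⟨_, rfl⟩
    have heX : e ∈ X := he ▸ hm.2.1 d hd
    have hk : ∀ k : ℕ, m ^ k * d * (m ^ k)⁻¹ = e ^ k * d := by
      intro k
      induction k with
      | zero => simp
      | succ k hk =>
        rw [pow_succ' m, show m * m ^ k * d * (m * m ^ k)⁻¹ = m * (m ^ k * d * (m ^ k)⁻¹) * m⁻¹ by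
            group, hk, show m * (e ^ k * d) * m⁻¹ = m * e ^ k * d * m⁻¹ by group,
          hm.2.2 _ (pow_mem heX k), show e ^ k * m * d * m⁻¹ = e ^ k * (m * d * m⁻¹ * d⁻¹) * d by
            group, he, ← pow_succ]
    have h1 : e ^ orderOf m = 1 := by
      have := hk (orderOf m)
      rw [pow_orderOf_eq_one] at this
      simpa using this
    obtain ⟨j, hj⟩ := IsPGroup.iff_orderOf.mp (P.2.to_le hD.1) ⟨e, hXD heX⟩
    rw [← Subgroup.orderOf_coe] at hj
    have h2 : orderOf e = 1 :=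
      Nat.eq_one_of_dvd_coprimes (Nat.Coprime.pow_left j ho.coprime_two_left)
        (hj ▸ dvd_rfl) (orderOf_dvd_of_pow_eq_one h1)
    rw [orderOf_eq_one_iff] at h2
    rw [h2] at he
    exact mul_inv_eq_iff_eq_mul.mp (mul_inv_eq_one.mp he)

/-- An element trivial modulo the Frattini subgroup. -/
theorem good_of_frattini (hnorm : ∀ p ∈ (P : Subgroup G), ∀ a ∈ S₁, p * a * p⁻¹ ∈ S₁) {D : Subgroup G}
    (hD : Tame P D) (ih : ∀ E, E ≤ (P : Subgroup G) → D < E → Mor P S₁ E) {y : G}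
    (hyP : y ∈ (P : Subgroup G)) (hyD : y ∉ D)
    (hyX : ∀ d ∈ D, y * d * y⁻¹ * d⁻¹ ∈ (frattini D).map D.subtype) : Good S₁ D := by
  set F := (frattini D).map D.subtype with hF
  have hFD : F ≤ D := map_subtype_le _
  have hFn : ∀ n ∈ normalizer (D : Set G), ∀ x ∈ F, n * x * n⁻¹ ∈ F := by
    rintro n hn _ ⟨x, hx, rfl⟩
    let φ : MulAut D := (MulAut.conj n).subgroupMap D |>.trans (MulEquiv.subgroupCongr (by
      ext z
      refine ⟨?_, fun hz => ⟨n⁻¹ * z * n⁻¹⁻¹, (conj_mem_iff (inv_mem hn)).2 hz, ?_⟩⟩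
      · rintro ⟨d, hd, rfl⟩
        exact (conj_mem_iff hn).2 hd
      · simp [MulAut.conj_apply, mul_assoc]))
    refine ⟨φ x, ?_, by simp [φ]⟩
    have := (Subgroup.characteristic_iff_map_eq.mp frattini_characteristic φ)
    exact this ▸ ⟨x, hx, rfl⟩
  have hFd : ∀ d ∈ D, ∀ x ∈ F, d * x * d⁻¹ ∈ F := fun d hd => hFn d (le_normalizer hd)
  have hyN : y ∈ normalizer (D : Set G) := by
    refine mem_normalizer_fintype fun d hd => ?_
    have := mul_mem (hFD (hyX d hd)) hd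
    rwa [show y * d * y⁻¹ * d⁻¹ * d = y * d * y⁻¹ by group] at this
  let M : Subgroup G :=
    { carrier := {m | m ∈ normalizer (D : Set G) ∧ ∀ d ∈ D, m * d * m⁻¹ * d⁻¹ ∈ F}
      one_mem' := ⟨one_mem _, fun d _ => by simp⟩
      mul_mem' := fun {a b} ha hb => ⟨mul_mem ha.1 hb.1, fun d hd => by
          rw [show a * b * d * (a * b)⁻¹ * d⁻¹ =
              a * (b * d * b⁻¹ * d⁻¹) * a⁻¹ * (a * d * a⁻¹ * d⁻¹) by group]
          exact mul_mem (hFn a ha.1 _ (hb.2 d hd)) (ha.2 d hd)⟩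
      inv_mem' := fun {a} ha => ⟨inv_mem ha.1, fun d hd => by
          have := inv_mem (ha.2 (a⁻¹ * d * a⁻¹⁻¹) ((conj_mem_iff (inv_mem ha.1)).2 hd))
          rw [show (a * (a⁻¹ * d * a⁻¹⁻¹) * a⁻¹ * (a⁻¹ * d * a⁻¹⁻¹)⁻¹)⁻¹ =
            a⁻¹ * d * a⁻¹⁻¹ * d⁻¹ by group] at this
          exact this⟩ }
  refine reduce hnorm hD (M := M) (fun m hm => hm.1) ?_ ?_ ⟨y, hyP, ⟨hyN, hyX⟩, hyD⟩ ih
  · intro n hn m hm
    refine ⟨mul_mem (mul_mem hn hm.1) (inv_mem hn), fun d hd => ?_⟩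
    have := hFn n hn _ (hm.2 _ ((conj_mem_iff (inv_mem hn)).2 hd))
    convert this using 1
    group
  · intro m hm ho d hd
    have hle : zpowers m ≤ M := zpowers_le.2 hm
    have h := CfsgLib.Coprime.le_centralizer_of_trivial_mod_frattini (A := zpowers m) (K := D)
      (fun a ha => (hle ha).1) (by
        obtain ⟨j, hj⟩ := IsPGroup.iff_card.mp ((P.2.to_le hD.1).to_subgroup (frattini D))
        rw [Nat.card_zpowers, hj]
        exact ho.coprime_two_right.pow_right j)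
      (fun a ha k hk => (hle ha).2 k hk) (mem_zpowers m)
    exact (mem_centralizer_iff.mp h d hd).symm

theorem eq_of_sq {r : G} {a b : ℕ} (ha : r ^ a * r ^ a = 1) (ha' : r ^ a ≠ 1)
    (hb : r ^ b * r ^ b = 1) (hb' : r ^ b ≠ 1) : r ^ a = r ^ b := by
  rw [← pow_add, ← orderOf_dvd_iff_pow_eq_one] at ha hb
  rw [Ne, ← orderOf_dvd_iff_pow_eq_one] at ha' hb'
  rw [pow_eq_pow_iff_modEq]
  obtain ⟨p, hp⟩ := ha
  obtain ⟨q, hq⟩ := hb
  obtain ⟨p', rfl⟩ | ⟨p', rfl⟩ := Nat.even_or_odd p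
  · exact absurd ⟨p', by rw [Nat.mul_add] at hp; omega⟩ ha'
  obtain ⟨q', rfl⟩ | ⟨q', rfl⟩ := Nat.even_or_odd q
  · exact absurd ⟨q', by rw [Nat.mul_add] at hq; omega⟩ hb'
  unfold Nat.ModEq
  obtain ⟨h, hh⟩ : ∃ h, orderOf r = 2 * h := ⟨a - orderOf r * p', by
    rw [Nat.mul_add, Nat.mul_one, show orderOf r * (2 * p') = 2 * (orderOf r * p') by ring] at hp
    omega⟩
  have e1 : a = h + orderOf r * p' := by
    rw [Nat.mul_add, Nat.mul_one, show orderOf r * (2 * p') = 2 * (orderOf r * p') by ring] at hp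
    omega
  have e2 : b = h + orderOf r * q' := by
    rw [Nat.mul_add, Nat.mul_one, show orderOf r * (2 * q') = 2 * (orderOf r * q') by ring] at hq
    omega
  rw [e1, e2, Nat.add_mul_mod_self_left, Nat.add_mul_mod_self_left]

variable {S₂ : Subgroup G}

theorem exists_split (h : IsInternalDirectProduct S₁ S₂ (P : Subgroup G)) {d : G}
    (hd : d ∈ (P : Subgroup G)) : ∃ a ∈ S₁, ∃ b ∈ S₂, a * b = d := by
  obtain ⟨-, -, hc, -, hsup⟩ := h
  rw [← hsup] at hd
  refine (CfsgLib.Coprime.mem_sup_iff_of_le_normalizer ?_).1 hd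
  intro a ha
  refine mem_normalizer_fintype fun b hb => ?_
  rw [hc a ha b hb, mul_inv_cancel_right]
  exact hb

theorem norm_of_product (h : IsInternalDirectProduct S₁ S₂ (P : Subgroup G)) :
    ∀ p ∈ (P : Subgroup G), ∀ a ∈ S₁, p * a * p⁻¹ ∈ S₁ := by
  intro p hp a ha
  obtain ⟨u, hu, v, hv, rfl⟩ := exists_split h hp
  rw [show u * v * a * (u * v)⁻¹ = u * (v * a * v⁻¹) * u⁻¹ by group, ← h.2.2.1 a ha v hv,
    mul_inv_cancel_right]
  exact mul_mem (mul_mem hu ha) (inv_mem hu)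

theorem good (h : IsInternalDirectProduct S₁ S₂ (P : Subgroup G)) (hd : Dih S₁ r s)
    (hcl : InvClosed S₁ (P : Subgroup G)) {D : Subgroup G} (hD : Tame P D)
    (ih : ∀ E, E ≤ (P : Subgroup G) → D < E → Mor P S₁ E) : Good S₁ D := by
  classical
  have hnorm := norm_of_product h
  intro n hn x hx hxS
  have hDP := hD.1
  have hinv : ∀ u ∈ D, u ∈ S₁ → u * u = 1 → n * u * n⁻¹ ∈ S₁ := fun u hu huS hu2 =>
    hcl u huS hu2 n (hDP ((conj_mem_iff hn).2 hu))
  rcases hd.cover x hxS with ⟨a, rfl⟩ | ⟨a, rfl⟩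
  swap
  · exact hinv _ hx hxS (hd.refl_sq a)
  rcases eq_or_ne (r ^ a * r ^ a) 1 with hx2 | hx2
  · exact hinv _ hx hxS hx2
  by_cases href : ∃ i, s * r ^ i ∈ D
  · obtain ⟨i, hi⟩ := href
    have hiS : s * r ^ i ∈ S₁ := mul_mem hd.hs (pow_mem hd.hr i)
    have h1 := hinv _ hi hiS (hd.refl_sq i)
    have h2 := hinv _ (mul_mem hi hx) (mul_mem hiS hxS) (by
      rw [mul_assoc s, ← pow_add]; exact hd.refl_sq _)
    have := mul_mem h1 h2
    rw [show n * (s * r ^ i) * n⁻¹ * (n * (s * r ^ i * r ^ a) * n⁻¹) =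
      n * ((s * r ^ i) * (s * r ^ i) * r ^ a) * n⁻¹ by group, hd.refl_sq, one_mul] at this
    exact this
  push Not at href
  suffices hg : Good S₁ D from hg n hn _ hx hxS
  have hrP : r ∈ (P : Subgroup G) := h.1 hd.hr
  obtain ⟨K, hK⟩ : ∃ K, orderOf r = 2 ^ K := by
    obtain ⟨k, hk⟩ := IsPGroup.iff_orderOf.mp P.2 ⟨r, hrP⟩
    exact ⟨k, by rwa [← Subgroup.orderOf_coe] at hk⟩
  have hex : ∃ l, 0 < l ∧ r ^ l ∈ D :=
    ⟨orderOf r, orderOf_pos r, by rw [pow_orderOf_eq_one]; exact one_mem _⟩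
  set l := Nat.find hex with hl
  obtain ⟨hl0, hlD⟩ := Nat.find_spec hex
  have hdiv : ∀ i, r ^ i ∈ D → l ∣ i := by
    intro i hi
    refine Nat.dvd_of_mod_eq_zero ?_
    by_contra hne
    refine Nat.find_min hex (Nat.mod_lt i hl0) ⟨Nat.pos_of_ne_zero hne, ?_⟩
    have := mul_mem (inv_mem (pow_mem hlD (i / l))) hi
    rwa [← pow_mul, ← Nat.mod_add_div i l, pow_add, (Commute.pow_pow_self r _ _).eq,
      show (i % l + l * (i / l)) / l = i / l by rw [Nat.mod_add_div],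
      inv_mul_cancel_left] at this
  have hsplitD : ∀ d ∈ D, ∃ a' ∈ S₁, ∃ b ∈ S₂, a' * b = d := fun d hdD => exists_split h (hDP hdD)
  have hcomm : ∀ c, ∀ b ∈ S₂, r ^ c * b = b * r ^ c := fun c b hb => h.2.2.1 _ (pow_mem hd.hr c) b hb
  by_cases hl1 : l = 1
  · -- all rotations lie in `D`
    have hr : r ∈ D := by
      have h' : r ^ l ∈ D := hlD
      simpa [hl1] using h'
    refine good_of_frattini hnorm hD ih (h.1 hd.hs) (fun hsD => href 0 (by simpa using hsD)) ?_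
    intro d hdD
    obtain ⟨a', ha', b, hb, rfl⟩ := hsplitD d hdD
    have hsb : s * b = b * s := h.2.2.1 _ hd.hs b hb
    have e : s * (a' * b) * s⁻¹ * (a' * b)⁻¹ = s * a' * s⁻¹ * a'⁻¹ := by
      rw [show s * (a' * b) * s⁻¹ * (a' * b)⁻¹ = s * a' * (b * s⁻¹) * b⁻¹ * a'⁻¹ by group,
        ← (show Commute s b from hsb).inv_left.eq]
      group
    rw [e]
    have hsinv : s⁻¹ = s := inv_eq_of_mul_eq_one_right hd.ss
    obtain ⟨j, hj⟩ : ∃ j : ℕ, s * a' * s⁻¹ * a'⁻¹ = r ^ j * r ^ j ∨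
        s * a' * s⁻¹ * a'⁻¹ = (r ^ j * r ^ j)⁻¹ := by
      rcases hd.cover a' ha' with ⟨i, rfl⟩ | ⟨i, rfl⟩
      · exact ⟨i, .inr (by rw [hsinv, hd.flip, mul_inv_rev])⟩
      · exact ⟨i, .inl (by
          rw [hd.refl_inv, hsinv, ← mul_assoc s s, hd.ss, one_mul, ← mul_assoc,
            mul_assoc (r ^ i) s s, hd.ss, mul_one])⟩
    have hmem : r ^ j * r ^ j ∈ (frattini D).map D.subtype := by
      refine ⟨(⟨r, hr⟩ ^ j) ^ 2, CfsgLib.PGroups.pow_mem_frattini (P.2.to_le hDP) _, ?_⟩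
      simp [pow_two]
    rcases hj with hj | hj <;> rw [hj]
    · exact hmem
    · exact inv_mem hmem
  · obtain ⟨k, hkK, hlk⟩ := (Nat.dvd_prime_pow Nat.prime_two).1
      (hK ▸ hdiv (orderOf r) (by rw [pow_orderOf_eq_one]; exact one_mem _))
    obtain ⟨c, hc⟩ : ∃ c, l = 2 * c := by
      rcases k with _ | k
      · exact absurd (by simpa using hlk) hl1
      · exact ⟨2 ^ k, by rw [hlk, pow_succ']⟩
    obtain ⟨q, hq⟩ := hdiv a hx
    have hk2 : r ^ l * r ^ l ≠ 1 := by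
      intro e
      refine hx2 ?_
      rw [hq, pow_mul, ← (Commute.refl (r ^ l)).mul_pow, e, one_pow]
    obtain ⟨jj, hjj⟩ : ∃ jj, orderOf (r ^ l) = 2 ^ jj := by
      obtain ⟨jj, h'⟩ := IsPGroup.iff_orderOf.mp (P.2.to_le hDP) ⟨r ^ l, hlD⟩
      exact ⟨jj, by rwa [← Subgroup.orderOf_coe] at h'⟩
    obtain ⟨e', he'⟩ : ∃ e', orderOf (r ^ l) = 2 * (2 * e') := by
      rcases jj with _ | _ | jj
      · refine absurd ?_ hk2
        rw [pow_zero, orderOf_eq_one_iff] at hjj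
        rw [hjj, one_mul]
      · refine absurd ?_ hk2
        rw [← pow_two]
        exact orderOf_dvd_iff_pow_eq_one.1 (hjj ▸ dvd_rfl)
      · exact ⟨2 ^ jj, by rw [hjj, pow_succ', pow_succ']⟩
    obtain ⟨z, hz⟩ : ∃ z, (r ^ l) ^ (2 * e') = z := ⟨_, rfl⟩
    have hzz : z * z = 1 := by
      rw [← hz, ← pow_add, ← two_mul, ← he', pow_orderOf_eq_one]
    have hz1 : z ≠ 1 := by
      intro e
      rw [← hz, ← orderOf_dvd_iff_pow_eq_one, he'] at e
      have := orderOf_pos (r ^ l)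
      have := Nat.le_of_dvd (by omega) e
      omega
    have hzS : z ∈ S₁ := hz ▸ pow_mem (pow_mem hd.hr _) _
    have hzD : z ∈ D := hz ▸ pow_mem hlD _
    have hrot : ∀ d ∈ S₁, d ^ (2 * e') = z → ∃ i, d = r ^ i := by
      intro d hdS hde
      rcases hd.cover d hdS with h' | ⟨i, rfl⟩
      · exact h'
      · rw [pow_mul, pow_two, hd.refl_sq, one_pow] at hde
        exact absurd hde.symm hz1
    have hcoord : ∀ u ∈ (P : Subgroup G), ∀ (e : ℕ) (v : G), v ∈ S₁ → u ^ e = v →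
        ∃ a' ∈ S₁, ∃ b ∈ S₂, a' * b = u ∧ a' ^ e = v := by
      intro u hu e v hv huv
      obtain ⟨a', ha', b, hb, rfl⟩ := exists_split h hu
      refine ⟨a', ha', b, hb, rfl, ?_⟩
      rw [(show Commute a' b from h.2.2.1 a' ha' b hb).mul_pow] at huv
      have hb1 : b ^ e = 1 := by
        have h1 : b ^ e ∈ S₁ ⊓ S₂ := by
          refine mem_inf.2 ⟨?_, pow_mem hb e⟩
          rw [← eq_inv_mul_iff_mul_eq] at huv
          rw [huv]
          exact mul_mem (inv_mem (pow_mem ha' e)) hv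
        rwa [h.2.2.2.1, Subgroup.mem_bot] at h1
      rwa [hb1, mul_one] at huv
    have hzfix : ∀ m ∈ normalizer (D : Set G), m * z * m⁻¹ = z := by
      intro m hm
      have hmS : m * z * m⁻¹ ∈ S₁ := hcl z hzS hzz m (hDP ((conj_mem_iff hm).2 hzD))
      have hw : (m * (r ^ l) ^ e' * m⁻¹) ^ 2 = m * z * m⁻¹ := by
        rw [conj_pow, ← pow_mul, Nat.mul_comm e', hz]
      obtain ⟨a', ha', b, -, -, ha2⟩ :=
        hcoord _ (hDP ((conj_mem_iff hm).2 (pow_mem hlD _))) 2 _ hmS hw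
      have hne : m * z * m⁻¹ ≠ 1 := fun e => hz1 (conj_eq_one_iff.mp e)
      rcases hd.cover a' ha' with ⟨i, rfl⟩ | ⟨i, rfl⟩
      · rw [← ha2, ← pow_mul]
        rw [← ha2, ← pow_mul] at hne
        rw [← hz, ← pow_mul]
        refine eq_of_sq ?_ hne ?_ ?_
        · rw [pow_mul, ha2, show m * z * m⁻¹ * (m * z * m⁻¹) = m * (z * z) * m⁻¹ by group, hzz]
          group
        · rw [pow_mul, hz, hzz]
        · rw [pow_mul, hz]; exact hz1
      · rw [pow_two, hd.refl_sq] at ha2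
        exact absurd ha2.symm hne
    have hXc : ∀ d ∈ closure {d | d ∈ D ∧ d ^ (2 * e') = z}, r ^ c * d = d * r ^ c := by
      intro d hd'
      suffices closure {d | d ∈ D ∧ d ^ (2 * e') = z} ≤ centralizer ({r ^ c} : Set G) from
        mem_centralizer_iff.mp (this hd') _ rfl
      rw [closure_le]
      rintro u ⟨huD, hue⟩
      obtain ⟨a', ha', b, hb, rfl, hae⟩ := hcoord u (hDP huD) _ z hzS hue
      obtain ⟨i, rfl⟩ := hrot a' ha' hae
      rw [SetLike.mem_coe, mem_centralizer_iff]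
      rintro _ rfl
      rw [← mul_assoc, (Commute.pow_pow_self r c i).eq, mul_assoc, hcomm c b hb, mul_assoc]
    refine good_of_chain hnorm hD ih (y := r ^ c) ((closure_le _).2 fun d hd' => hd'.1) ?_
      (pow_mem hrP c) ?_ ?_ hXc
    · intro m hm u hu
      induction hu using closure_induction with
      | mem v hv =>
        refine subset_closure ⟨(conj_mem_iff hm).2 hv.1, ?_⟩
        rw [conj_pow, hv.2, hzfix m hm]
      | one => simp
      | mul v w _ _ hv hw =>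
        rw [show m * (v * w) * m⁻¹ = m * v * m⁻¹ * (m * w * m⁻¹) by group]
        exact mul_mem hv hw
      | inv v _ hv =>
        rw [show m * v⁻¹ * m⁻¹ = (m * v * m⁻¹)⁻¹ by group]
        exact inv_mem hv
    · intro hcD
      obtain ⟨p, hp⟩ := hdiv c hcD
      rcases Nat.eq_zero_or_pos p with rfl | hp0
      · omega
      · have := Nat.le_mul_of_pos_right l hp0
        omega
    · intro d hdD
      obtain ⟨a', ha', b, hb, rfl⟩ := hsplitD d hdD
      have e : r ^ c * (a' * b) * (r ^ c)⁻¹ * (a' * b)⁻¹ = r ^ c * a' * (r ^ c)⁻¹ * a'⁻¹ := by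
        rw [show r ^ c * (a' * b) * (r ^ c)⁻¹ * (a' * b)⁻¹ =
            r ^ c * a' * (b * (r ^ c)⁻¹) * b⁻¹ * a'⁻¹ by group,
          ← (show Commute (r ^ c) b from hcomm c b hb).inv_left.eq]
        group
      rw [e]
      rcases hd.cover a' ha' with ⟨i, rfl⟩ | ⟨i, rfl⟩
      · rw [(Commute.pow_pow_self r c i).eq, mul_inv_cancel_right, mul_inv_cancel]
        exact one_mem _
      · rw [hd.conj_refl, ← pow_add, ← two_mul, ← hc]
        exact subset_closure ⟨hlD, hz⟩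

theorem mor (h : IsInternalDirectProduct S₁ S₂ (P : Subgroup G)) (hd : Dih S₁ r s)
    (hcl : InvClosed S₁ (P : Subgroup G)) :
    ∀ n : ℕ, ∀ D, Tame P D → Nat.card G - Nat.card D = n → Good S₁ D := by
  intro n
  induction n using Nat.strong_induction_on with
  | _ n ih =>
    intro D hD hn
    refine good h hd hcl hD fun E hE hlt => mor_of_good (k := Nat.card D + 1) (fun D' hD' hk => ?_) hE
      (CfsgLib.Transfer.card_lt_card_of_lt hlt)
    refine ih _ ?_ D' hD' rfl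
    have := Subgroup.card_le_card_group D'
    omega

end Close

universe u

/-- Piece C. -/
theorem close : CloseStmt.{u} := by
  intro G _ _ S S₁ S₂ h m₁ m₂ hm₁ _ e₁ _ hcl _
  obtain ⟨e⟩ := e₁
  obtain ⟨r, s, hd⟩ := Close.exists_dih (by omega) e
  refine ⟨h.1, fun x hx g hg => ?_⟩
  refine Close.mor_of_good (P := S) (k := 0) (fun D hD _ => Close.mor h hd hcl _ D hD rfl)
    (E := zpowers x) (zpowers_le.2 (h.1 hx)) (Nat.zero_le _) g ?_ x (mem_zpowers x) hx
  intro y hy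
  obtain ⟨i, rfl⟩ := mem_zpowers_iff.1 hy
  rw [← conj_zpow]
  exact zpow_mem hg i

end CfsgLib.DihedralPairFusion
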