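import Mathlib
import Cfsg.Prelude.Def_TwoFusion

/-!
# Sylow 2-subgroups `D₁ × D₂` with dihedral factors: product fusion (the pieces for S3113)

`InvClosed` is strong closure tested on involutions only. The two existence pieces give a
factorisation with both factors closed for involutions; the closure piece upgrades this to strong
closure by Alperin's theorem, after which `Lib/StrongClosedPair/Split` applies.
-/

set_option autoImplicit false

namespace CfsgLib.DihedralPairFusion

open Cfsg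

universe u

variable {G : Type u} [Group G]

/-- Conjugates in `P` of involutions of `Q` stay in `Q`. -/
def InvClosed (Q P : Subgroup G) : Prop :=
  ∀ x ∈ Q, x * x = 1 → ∀ g : G, g * x * g⁻¹ ∈ P → g * x * g⁻¹ ∈ Q

/-- A factorisation of `P` into dihedral factors, both closed for involutions. -/
def Factor (P : Subgroup G) (m₁ m₂ : ℕ) : Prop :=
  ∃ S₁ S₂ : Subgroup G, IsInternalDirectProduct S₁ S₂ P ∧ Nonempty (S₁ ≃* DihedralGroup m₁) ∧
    Nonempty (S₂ ≃* DihedralGroup m₂) ∧ InvClosed S₁ P ∧ InvClosed S₂ P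

/-- Piece A: both factors nonabelian. -/
def BigStmt : Prop :=
  ∀ (G : Type u) [Group G] [Finite G], (∀ N : Subgroup G, N.Normal → N.index ≠ 2) →
    ∀ (S : Sylow 2 G) (D₁ D₂ : Subgroup G), IsInternalDirectProduct D₁ D₂ (S : Subgroup G) →
      ∀ m₁ m₂ : ℕ, 4 ≤ m₁ → 4 ≤ m₂ → Nonempty (D₁ ≃* DihedralGroup m₁) →
        Nonempty (D₂ ≃* DihedralGroup m₂) → Factor (S : Subgroup G) m₁ m₂

/-- Piece B: the first factor is a four-group. -/
def FourStmt : Prop :=
  ∀ (G : Type u) [Group G] [Finite G], (∀ N : Subgroup G, N.Normal → N.index ≠ 2) →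
    ∀ (S : Sylow 2 G) (D₁ D₂ : Subgroup G), IsInternalDirectProduct D₁ D₂ (S : Subgroup G) →
      ∀ m₂ : ℕ, 4 ≤ m₂ → Nonempty (D₁ ≃* DihedralGroup 2) →
        Nonempty (D₂ ≃* DihedralGroup m₂) → Factor (S : Subgroup G) 2 m₂

/-- Piece C: closure for involutions is strong closure. -/
def CloseStmt : Prop :=
  ∀ (G : Type u) [Group G] [Finite G] (S : Sylow 2 G) (S₁ S₂ : Subgroup G),
    IsInternalDirectProduct S₁ S₂ (S : Subgroup G) → ∀ m₁ m₂ : ℕ, 2 ≤ m₁ → 2 ≤ m₂ →
      Nonempty (S₁ ≃* DihedralGroup m₁) → Nonempty (S₂ ≃* DihedralGroup m₂) →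
        InvClosed S₁ (S : Subgroup G) → InvClosed S₂ (S : Subgroup G) →
          IsStronglyClosed S₁ (S : Subgroup G)

end CfsgLib.DihedralPairFusion
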