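import Mathlib
import Cfsg.Agent.Lib.DihedralPairFusion.Interface
import Cfsg.Agent.Lib.DihedralPairFusion.Twist
import Cfsg.Agent.Lib.Transfer.ThompsonTransfer
import Cfsg.Agent.Lib.Transfer.Fusion

/-!
# S3113, piece B: Sylow two-subgroup four-group times dihedral

Fusion of involutions: an element of the normalizer of the Sylow subgroup is transitive on a
four-subgroup `V` of the centre, and every other involution is conjugate to `z` or to `v * z`.
-/

set_option autoImplicit false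
set_option linter.unusedSectionVars false
set_option linter.style.haveILetI false

open Cfsg

namespace CfsgLib.DihedralPairFusion

universe u

namespace Four

variable {G : Type u} [Group G]

/-- A Sylow two-subgroup that is four-group times dihedral, with coordinates. -/
structure Conf (G : Type u) [Group G] where
  S : Sylow 2 G
  V : Subgroup G
  D : Subgroup G
  hD : IsInternalDirectProduct V D (S : Subgroup G)
  m : ℕ
  hm : 4 ∣ m
  hm0 : m ≠ 0
  e : D ≃* DihedralGroup m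
  cardV : Nat.card V = 4
  sqV : ∀ a ∈ V, a * a = 1

namespace Conf

variable (X : Conf G)

/-- The rotations. -/
def rot (i : ZMod X.m) : G := ((X.e.symm (DihedralGroup.r i) : X.D) : G)

/-- The reflections. -/
def el (i : ZMod X.m) : G := ((X.e.symm (DihedralGroup.sr i) : X.D) : G)

/-- The central rotation. -/
def z : G := X.rot ((X.m / 2 : ℕ) : ZMod X.m)

/-- The parity of an index. -/
def par (i : ZMod X.m) : ZMod 2 := ZMod.castHom ((show 2 ∣ 4 by norm_num).trans X.hm) (ZMod 2) i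

theorem le_V : X.V ≤ (X.S : Subgroup G) := X.hD.1

theorem le_D : X.D ≤ (X.S : Subgroup G) := X.hD.2.1

theorem comm {a d : G} (ha : a ∈ X.V) (hd : d ∈ X.D) : a * d = d * a := X.hD.2.2.1 a ha d hd

theorem rot_mem (i : ZMod X.m) : X.rot i ∈ X.D := SetLike.coe_mem _

theorem el_mem (i : ZMod X.m) : X.el i ∈ X.D := SetLike.coe_mem _

theorem z_mem : X.z ∈ X.D := X.rot_mem _

theorem cases_D {d : G} (hd : d ∈ X.D) : (∃ i, d = X.rot i) ∨ ∃ i, d = X.el i := by
  obtain ⟨i, hi⟩ | ⟨i, hi⟩ : (∃ i, X.e ⟨d, hd⟩ = DihedralGroup.r i) ∨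
      ∃ i, X.e ⟨d, hd⟩ = DihedralGroup.sr i := by
    rcases h : X.e ⟨d, hd⟩ with i | i
    exacts [Or.inl ⟨i, rfl⟩, Or.inr ⟨i, rfl⟩]
  · exact Or.inl ⟨i, by rw [rot, ← hi, MulEquiv.symm_apply_apply]⟩
  · exact Or.inr ⟨i, by rw [el, ← hi, MulEquiv.symm_apply_apply]⟩

theorem rot_rot (i j : ZMod X.m) : X.rot i * X.rot j = X.rot (i + j) := by
  rw [rot, rot, rot, ← Subgroup.coe_mul, ← map_mul, DihedralGroup.r_mul_r]

theorem rot_el (i j : ZMod X.m) : X.rot i * X.el j = X.el (j - i) := by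
  rw [rot, el, el, ← Subgroup.coe_mul, ← map_mul, DihedralGroup.r_mul_sr]

theorem el_rot (i j : ZMod X.m) : X.el i * X.rot j = X.el (i + j) := by
  rw [rot, el, el, ← Subgroup.coe_mul, ← map_mul, DihedralGroup.sr_mul_r]

theorem el_el (i j : ZMod X.m) : X.el i * X.el j = X.rot (j - i) := by
  rw [rot, el, el, ← Subgroup.coe_mul, ← map_mul, DihedralGroup.sr_mul_sr]

theorem rot_zero : X.rot 0 = 1 := by
  rw [rot, ← DihedralGroup.one_def, map_one, Subgroup.coe_one]

theorem rot_inv (i : ZMod X.m) : (X.rot i)⁻¹ = X.rot (-i) :=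
  inv_eq_of_mul_eq_one_right (by rw [X.rot_rot, add_neg_cancel, X.rot_zero])

theorem rot_inj {i j : ZMod X.m} (h : X.rot i = X.rot j) : i = j :=
  DihedralGroup.r.inj (X.e.symm.injective (Subtype.ext h))

theorem el_inj {i j : ZMod X.m} (h : X.el i = X.el j) : i = j :=
  DihedralGroup.sr.inj (X.e.symm.injective (Subtype.ext h))

theorem el_ne_rot (i j : ZMod X.m) : X.el i ≠ X.rot j := fun h =>
  by have h' : DihedralGroup.sr i = DihedralGroup.r j := X.e.symm.injective (Subtype.ext h)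
     exact absurd h' (by simp)

theorem el_sq (i : ZMod X.m) : X.el i * X.el i = 1 := by rw [X.el_el, sub_self, X.rot_zero]

theorem two_le : 2 ≤ X.m / 2 := by
  obtain ⟨q, hq⟩ := X.hm
  have := X.hm0
  omega

theorem half_ne : ((X.m / 2 : ℕ) : ZMod X.m) ≠ 0 := by
  rw [Ne, ZMod.natCast_eq_zero_iff]
  intro h
  have := Nat.le_of_dvd (by have := X.two_le; omega) h
  have := X.two_le
  omega

theorem half_add : ((X.m / 2 : ℕ) : ZMod X.m) + ((X.m / 2 : ℕ) : ZMod X.m) = 0 := by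
  rw [← Nat.cast_add, show X.m / 2 + X.m / 2 = X.m by obtain ⟨q, hq⟩ := X.hm; omega,
    ZMod.natCast_self]

theorem eq_half {i : ZMod X.m} (h : i + i = 0) : i = 0 ∨ i = ((X.m / 2 : ℕ) : ZMod X.m) := by
  haveI : NeZero X.m := ⟨X.hm0⟩
  rw [← ZMod.natCast_zmod_val i, ← Nat.cast_add, ZMod.natCast_eq_zero_iff] at h
  have h1 := i.val_lt
  obtain ⟨q, hq⟩ := h
  obtain ⟨q', hq'⟩ := X.hm
  rcases q with _ | _ | q
  · left; rw [← ZMod.natCast_zmod_val i, show i.val = 0 by omega, Nat.cast_zero]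
  · right; rw [← ZMod.natCast_zmod_val i, show i.val = X.m / 2 by omega]
  · exfalso
    have : X.m * (q + 1 + 1) = X.m * q + X.m + X.m := by ring
    omega

theorem z_ne : X.z ≠ 1 := fun h => X.half_ne (X.rot_inj (h.trans X.rot_zero.symm))

theorem z_sq : X.z * X.z = 1 := by rw [z, X.rot_rot, X.half_add, X.rot_zero]

theorem z_comm {d : G} (hd : d ∈ X.D) : X.z * d = d * X.z := by
  rcases X.cases_D hd with ⟨i, rfl⟩ | ⟨i, rfl⟩
  · rw [z, X.rot_rot, X.rot_rot, add_comm]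
  · rw [z, X.rot_el, X.el_rot, sub_eq_add_neg,
      ← eq_neg_of_add_eq_zero_left X.half_add]

theorem par_half : X.par ((X.m / 2 : ℕ) : ZMod X.m) = 0 := by
  rw [par, map_natCast, ZMod.natCast_eq_zero_iff]
  obtain ⟨q, hq⟩ := X.hm
  omega

/-- Reflections of the same parity are conjugate in `D`. -/
theorem exists_conj_el {i j : ZMod X.m} (h : X.par i = X.par j) :
    ∃ d ∈ X.D, d * X.el i * d⁻¹ = X.el j := by
  haveI : NeZero X.m := ⟨X.hm0⟩
  have h0 : ((i - j).val : ZMod 2) = 0 := by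
    have := congrArg (ZMod.castHom ((show 2 ∣ 4 by norm_num).trans X.hm) (ZMod 2))
      (ZMod.natCast_zmod_val (i - j))
    rw [map_natCast, map_sub] at this
    rw [this]
    exact sub_eq_zero.2 h
  obtain ⟨k, hk⟩ := (ZMod.natCast_eq_zero_iff _ _).1 h0
  refine ⟨X.rot k, X.rot_mem _, ?_⟩
  rw [X.rot_inv, X.rot_el, X.el_rot]
  congr 1
  have : i - j = (k : ZMod X.m) + k := by
    rw [← ZMod.natCast_zmod_val (i - j), hk, two_mul, Nat.cast_add]
  linear_combination this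

theorem mul_uniq {a a' d d' : G} (ha : a ∈ X.V) (ha' : a' ∈ X.V) (hd : d ∈ X.D) (hd' : d' ∈ X.D)
    (h : a * d = a' * d') : a = a' ∧ d = d' := by
  have h1 : a'⁻¹ * a = d' * d⁻¹ := by
    rw [inv_mul_eq_iff_eq_mul, ← mul_assoc, eq_mul_inv_iff_mul_eq, h]
  have h2 : a'⁻¹ * a ∈ X.V ⊓ X.D :=
    Subgroup.mem_inf.2 ⟨mul_mem (inv_mem ha') ha, by rw [h1]; exact mul_mem hd' (inv_mem hd)⟩
  rw [X.hD.2.2.2.1, Subgroup.mem_bot, inv_mul_eq_one] at h2
  exact ⟨h2.symm, by rw [← h2] at h; exact mul_left_cancel h⟩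

/-- The multiplication map. -/
def mulHom : X.V × X.D →* (X.S : Subgroup G) :=
  MonoidHom.mk' (fun p => ⟨(p.1 : G) * p.2, mul_mem (X.le_V p.1.2) (X.le_D p.2.2)⟩) fun p q =>
    Subtype.ext (by
      show (p.1 : G) * q.1 * ((p.2 : G) * q.2) = (p.1 : G) * p.2 * ((q.1 : G) * q.2)
      calc (p.1 : G) * q.1 * ((p.2 : G) * q.2) = p.1 * ((q.1 : G) * p.2) * q.2 := by
            simp only [mul_assoc]
        _ = _ := by rw [X.comm q.1.2 p.2.2]; simp only [mul_assoc])

theorem mulHom_bijective : Function.Bijective X.mulHom := by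
  refine ⟨fun p q h => ?_, fun x => ?_⟩
  · obtain ⟨h1, h2⟩ := X.mul_uniq p.1.2 q.1.2 p.2.2 q.2.2 (congrArg Subtype.val h)
    exact Prod.ext (Subtype.ext h1) (Subtype.ext h2)
  · have hx : (x : G) ∈ X.V ⊔ X.D := by
      rw [X.hD.2.2.2.2]; exact x.2
    have hn : X.V ≤ Subgroup.normalizer (X.D : Set G) := fun a ha =>
      Subgroup.centralizer_le_normalizer _
        (Subgroup.mem_centralizer_iff.2 fun d hd => (X.comm ha hd).symm)
    rw [← SetLike.mem_coe, Subgroup.coe_mul_of_left_le_normalizer_right _ _ hn] at hx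
    obtain ⟨a, ha, d, hd, e⟩ := hx
    exact ⟨(⟨a, ha⟩, ⟨d, hd⟩), Subtype.ext e⟩

/-- The coordinates. -/
noncomputable def coord : (X.S : Subgroup G) ≃* X.V × X.D :=
  (MulEquiv.ofBijective X.mulHom X.mulHom_bijective).symm

theorem dec {x : G} (hx : x ∈ (X.S : Subgroup G)) : ∃ a ∈ X.V, ∃ d ∈ X.D, x = a * d := by
  obtain ⟨⟨a, d⟩, h⟩ := X.mulHom_bijective.2 ⟨x, hx⟩
  exact ⟨a, a.2, d, d.2, (congrArg Subtype.val h).symm⟩

theorem coord_mul {a d : G} (ha : a ∈ X.V) (hd : d ∈ X.D) :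
    X.coord ⟨a * d, mul_mem (X.le_V ha) (X.le_D hd)⟩ = (⟨a, ha⟩, ⟨d, hd⟩) :=
  (MulEquiv.ofBijective X.mulHom X.mulHom_bijective).symm_apply_apply (⟨a, ha⟩, ⟨d, hd⟩)

theorem V_comm {a b : G} (ha : a ∈ X.V) (hb : b ∈ X.V) : a * b = b * a := by
  have hi : ∀ c ∈ X.V, c⁻¹ = c := fun c hc => inv_eq_of_mul_eq_one_left (X.sqV c hc)
  calc a * b = (a * b)⁻¹ := (hi _ (mul_mem ha hb)).symm
    _ = b * a := by rw [mul_inv_rev, hi a ha, hi b hb]

theorem V_cases {v w a : G} (hv : v ∈ X.V) (hw : w ∈ X.V) (hv1 : v ≠ 1) (hw1 : w ≠ 1)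
    (hvw : v ≠ w) (ha : a ∈ X.V) : a = 1 ∨ a = v ∨ a = w ∨ a = v * w := by
  classical
  by_contra h
  push Not at h
  obtain ⟨h1, h2, h3, h4⟩ := h
  have hvwv : v ≠ v * w := fun e => hw1 (left_eq_mul.1 e)
  have hvww : w ≠ v * w := fun e => hv1 (mul_eq_right.1 e.symm)
  have hvw1 : (1 : G) ≠ v * w := fun e => hvw (by
    calc v = v * (w * w) := by rw [X.sqV w hw, mul_one]
      _ = w := by rw [← mul_assoc, ← e, one_mul])
  have hsub : (({1, v, w, v * w, a} : Finset G) : Set G) ⊆ (X.V : Set G) := by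
    intro x hx
    simp only [Finset.coe_insert, Finset.coe_singleton, Set.mem_insert_iff,
      Set.mem_singleton_iff] at hx
    rcases hx with rfl | rfl | rfl | rfl | rfl
    exacts [one_mem _, hv, hw, mul_mem hv hw, ha]
  have hfin : (X.V : Set G).Finite := Set.finite_coe_iff.1 (Nat.finite_of_card_ne_zero
    (by rw [SetLike.coe_sort_coe, X.cardV]; norm_num))
  have := Set.ncard_le_ncard hsub hfin
  rw [Set.ncard_coe_finset, ← Nat.card_coe_set_eq, SetLike.coe_sort_coe, X.cardV] at this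
  have h5 : ({1, v, w, v * w, a} : Finset G).card = 5 := by
    rw [Finset.card_insert_of_notMem, Finset.card_insert_of_notMem, Finset.card_insert_of_notMem,
      Finset.card_insert_of_notMem, Finset.card_singleton] <;> simp [*, Ne.symm hv1, Ne.symm hw1,
      Ne.symm h1, Ne.symm h2, Ne.symm h3, Ne.symm h4]
  omega

/-- The elements of the centre of `S`. -/
def InU (x : G) : Prop := ∃ a ∈ X.V, x = a ∨ x = a * X.z

theorem inU_mem {x : G} (h : X.InU x) : x ∈ (X.S : Subgroup G) := by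
  obtain ⟨a, ha, rfl | rfl⟩ := h
  exacts [X.le_V ha, mul_mem (X.le_V ha) (X.le_D X.z_mem)]

theorem inU_comm {x : G} (h : X.InU x) {y : G} (hy : y ∈ (X.S : Subgroup G)) :
    x * y = y * x := by
  obtain ⟨b, hb, d, hd, rfl⟩ := X.dec hy
  have h1 : ∀ {a : G}, a ∈ X.V → a * (b * d) = b * d * a := fun {a} ha => by
    rw [← mul_assoc, X.V_comm ha hb, mul_assoc, X.comm ha hd, ← mul_assoc]
  have h2 : X.z * (b * d) = b * d * X.z := by
    rw [← mul_assoc, ← X.comm hb X.z_mem, mul_assoc, X.z_comm hd, ← mul_assoc]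
  obtain ⟨a, ha, rfl | rfl⟩ := h
  · exact h1 ha
  · rw [mul_assoc, h2, ← mul_assoc, h1 ha, mul_assoc]

theorem inU_sq {x : G} (h : X.InU x) : x * x = 1 := by
  obtain ⟨a, ha, rfl | rfl⟩ := h
  · exact X.sqV _ ha
  · rw [mul_assoc, ← mul_assoc X.z, ← X.comm ha X.z_mem, mul_assoc a, X.z_sq, mul_one, X.sqV a ha]

theorem inU_mul {x y : G} (hx : X.InU x) (hy : X.InU y) : X.InU (x * y) := by
  obtain ⟨a, ha, rfl | rfl⟩ := hx <;> obtain ⟨b, hb, rfl | rfl⟩ := hy
  · exact ⟨_, mul_mem ha hb, Or.inl rfl⟩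
  · exact ⟨_, mul_mem ha hb, Or.inr (mul_assoc _ _ _).symm⟩
  · exact ⟨_, mul_mem ha hb, Or.inr (by rw [mul_assoc, ← X.comm hb X.z_mem, mul_assoc])⟩
  · refine ⟨_, mul_mem ha hb, Or.inl ?_⟩
    rw [mul_assoc, ← mul_assoc X.z, ← X.comm hb X.z_mem, mul_assoc b, X.z_sq, mul_one]

theorem not_inU_el {a : G} (ha : a ∈ X.V) (i : ZMod X.m) : ¬ X.InU (a * X.el i) := by
  rintro ⟨b, hb, h | h⟩
  · refine X.el_ne_rot i 0 ?_
    rw [X.rot_zero]
    exact (X.mul_uniq ha hb (X.el_mem i) (one_mem _) (by rw [h, mul_one])).2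
  · exact X.el_ne_rot i _ (X.mul_uniq ha hb (X.el_mem i) X.z_mem h).2

theorem inU_of_central {x : G} (hx : x ∈ (X.S : Subgroup G))
    (h : ∀ d ∈ X.D, x * d = d * x) : X.InU x := by
  obtain ⟨a, ha, d, hd, rfl⟩ := X.dec hx
  have hd' : ∀ y ∈ X.D, d * y = y * d := fun y hy => by
    have := h y hy
    rw [mul_assoc, ← mul_assoc y, ← X.comm ha hy, mul_assoc a y d] at this
    exact mul_left_cancel this
  rcases X.cases_D hd with ⟨i, rfl⟩ | ⟨i, rfl⟩
  · have := hd' _ (X.el_mem 0)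
    rw [X.rot_el, X.el_rot, zero_sub, zero_add] at this
    rcases X.eq_half (eq_neg_iff_add_eq_zero.1 (X.el_inj this).symm) with rfl | rfl
    · exact ⟨a, ha, Or.inl (by rw [X.rot_zero, mul_one])⟩
    · exact ⟨a, ha, Or.inr rfl⟩
  · exfalso
    have := hd' _ (X.rot_mem 1)
    rw [X.el_rot, X.rot_el] at this
    have h2 : ((2 : ℕ) : ZMod X.m) = 0 := by
      push_cast; linear_combination (X.el_inj this)
    have := Nat.le_of_dvd (by norm_num) ((ZMod.natCast_eq_zero_iff _ _).1 h2)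
    have := X.two_le
    omega

/-- Involutions of `S`. -/
theorem invol_cases {x : G} (hx : x ∈ (X.S : Subgroup G)) (h : x * x = 1) :
    X.InU x ∨ ∃ a ∈ X.V, ∃ i, x = a * X.el i := by
  obtain ⟨a, ha, d, hd, rfl⟩ := X.dec hx
  rcases X.cases_D hd with ⟨i, rfl⟩ | ⟨i, rfl⟩
  · left
    have h1 : X.rot (i + i) = 1 := by
      rw [← X.rot_rot]
      rw [mul_assoc, ← mul_assoc (X.rot i), ← X.comm ha hd, mul_assoc a (X.rot i), ← mul_assoc,
        X.sqV a ha, one_mul] at h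
      exact h
    rcases X.eq_half (X.rot_inj (h1.trans X.rot_zero.symm)) with rfl | rfl
    · exact ⟨a, ha, Or.inl (by rw [X.rot_zero, mul_one])⟩
    · exact ⟨a, ha, Or.inr rfl⟩
  · exact Or.inr ⟨a, ha, i, rfl⟩

theorem el_invol {a : G} (ha : a ∈ X.V) (i : ZMod X.m) : a * X.el i * (a * X.el i) = 1 := by
  rw [mul_assoc, ← mul_assoc (X.el i), ← X.comm ha (X.el_mem i), mul_assoc a (X.el i), X.el_sq,
    mul_one, X.sqV a ha]

/-- Translates of reflections of the same parity are conjugate. -/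
theorem isConj_el {a : G} (ha : a ∈ X.V) {i j : ZMod X.m} (h : X.par i = X.par j) :
    IsConj (a * X.el i) (a * X.el j) := by
  obtain ⟨d, hd, e⟩ := X.exists_conj_el h
  refine isConj_iff.2 ⟨d, ?_⟩
  rw [← mul_assoc, ← X.comm ha hd, mul_assoc a, mul_assoc a, e]

theorem el_mul_z (i : ZMod X.m) : X.el i * X.z = X.el (i + ((X.m / 2 : ℕ) : ZMod X.m)) :=
  X.el_rot _ _

theorem isConj_mul_z {a : G} (ha : a ∈ X.V) (i : ZMod X.m) :
    IsConj (a * X.el i) (a * X.el i * X.z) := by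
  rw [mul_assoc, X.el_mul_z]
  refine X.isConj_el ha ?_
  show _ = X.par _
  simp only [par, map_add]
  exact (add_eq_left.2 X.par_half).symm

end Conf

namespace Conf

variable (X : Conf G) [Finite G]

/-- The normalizer of the Sylow subgroup. -/
def N : Subgroup G := Subgroup.normalizer ((X.S : Subgroup G) : Set G)

theorem conj_mem_S {n x : G} (hn : n ∈ X.N) (hx : x ∈ (X.S : Subgroup G)) :
    n * x * n⁻¹ ∈ (X.S : Subgroup G) :=
  (Subgroup.mem_normalizer_iff.1 hn x).1 hx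

theorem S_le_N : (X.S : Subgroup G) ≤ X.N := Subgroup.le_normalizer

theorem inU_conj {n u : G} (hn : n ∈ X.N) (hu : X.InU u) : X.InU (n * u * n⁻¹) := by
  refine X.inU_of_central (X.conj_mem_S hn (X.inU_mem hu)) fun d hd => ?_
  have h := X.inU_comm hu (X.conj_mem_S (inv_mem hn) (X.le_D hd))
  rw [inv_inv] at h
  calc n * u * n⁻¹ * d = n * (u * (n⁻¹ * d * n)) * n⁻¹ := by group
    _ = _ := by rw [h]; group

theorem inU_eq {a : G} (ha : a ∈ X.D) (h : X.InU a) : a = 1 ∨ a = X.z := by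
  obtain ⟨b, hb, e | e⟩ := h
  · exact Or.inl (X.mul_uniq (one_mem _) hb ha (one_mem _) (by rw [one_mul, e, mul_one])).2
  · exact Or.inr (X.mul_uniq (one_mem _) hb ha X.z_mem (by rw [one_mul, e])).2

theorem z_inU : X.InU X.z := ⟨1, one_mem _, Or.inr (one_mul _).symm⟩

theorem one_inU : X.InU (1 : G) := ⟨1, one_mem _, Or.inl rfl⟩

theorem V_inU {a : G} (ha : a ∈ X.V) : X.InU a := ⟨a, ha, Or.inl rfl⟩

theorem Vz_inU {a : G} (ha : a ∈ X.V) : X.InU (a * X.z) := ⟨a, ha, Or.inr rfl⟩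

theorem z_fixed {n : G} (hn : n ∈ X.N) : n * X.z * n⁻¹ = X.z := by
  obtain ⟨q, hq⟩ := X.hm
  have hsq : X.z = X.rot (q : ZMod X.m) * X.rot (q : ZMod X.m) := by
    rw [X.rot_rot, z, ← Nat.cast_add]; congr 2; omega
  have hU := X.inU_conj hn X.z_inU
  rw [hsq, ← conj_mul] at hU ⊢
  obtain ⟨a, ha, d, hd, e⟩ := X.dec (X.conj_mem_S hn (X.le_D (X.rot_mem (q : ZMod X.m))))
  rw [e, mul_assoc, ← mul_assoc d, ← X.comm ha hd, mul_assoc a d, ← mul_assoc, X.sqV a ha,
    one_mul] at hU ⊢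
  rw [← hsq]
  refine (X.inU_eq (mul_mem hd hd) hU).resolve_left fun h1 => X.z_ne ?_
  have h2 : n * X.z * n⁻¹ = 1 := by
    rw [hsq, ← conj_mul, e, mul_assoc, ← mul_assoc d, ← X.comm ha hd, mul_assoc a d, ← mul_assoc,
      X.sqV a ha, one_mul, h1]
  exact conj_eq_one_iff.1 h2

/-- An odd power lies in `S`. -/
theorem exists_odd_pow {n : G} (hn : n ∈ X.N) : ∃ k : ℕ, n ^ (2 * k + 1) ∈ (X.S : Subgroup G) := by
  haveI : Fact (Nat.Prime 2) := ⟨Nat.prime_two⟩
  obtain ⟨e, o, ho, hno⟩ := Nat.exists_eq_pow_mul_and_not_dvd (orderOf_pos n).ne' 2 (by norm_num)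
  obtain ⟨k, hk⟩ := Nat.odd_iff.2 (Nat.two_dvd_ne_zero.1 ho)
  refine ⟨k, ?_⟩
  rw [← hk]
  have hp : IsPGroup 2 (Subgroup.zpowers (n ^ o)) := by
    refine IsPGroup.of_card (n := e) ?_
    rw [Nat.card_zpowers, orderOf_pow_of_dvd (by omega) (hno ▸ dvd_mul_left _ _), hno,
      Nat.mul_div_cancel _ (by omega)]
  have hsup : IsPGroup 2 ↥((X.S : Subgroup G) ⊔ Subgroup.zpowers (n ^ o)) :=
    IsPGroup.to_sup_of_normal_left' X.S.2 hp (Subgroup.zpowers_le.2 (pow_mem hn o))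
  rw [← X.S.3 hsup le_sup_left]
  exact Subgroup.mem_sup_right (Subgroup.mem_zpowers _)

theorem odd_fix {n u : G} (hn : n ∈ X.N) (hu : X.InU u) (h : n * (n * u * n⁻¹) * n⁻¹ = u) :
    n * u * n⁻¹ = u := by
  obtain ⟨k, hk⟩ := X.exists_odd_pow hn
  have h2 : n * n ∈ Subgroup.centralizer ({u} : Set G) := by
    rw [Subgroup.mem_centralizer_singleton_iff]
    conv_rhs => rw [← h]
    group
  have h1 : n ^ (2 * k + 1) ∈ Subgroup.centralizer ({u} : Set G) :=
    Subgroup.mem_centralizer_singleton_iff.2 (X.inU_comm hu hk).symm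
  rw [pow_succ, pow_mul, pow_two, Subgroup.mul_mem_cancel_left _ (pow_mem h2 k)] at h1
  rw [Subgroup.mem_centralizer_singleton_iff.1 h1, mul_inv_cancel_right]

theorem burnside {x y : G} (hx : X.InU x) (hy : X.InU y) (h : IsConj x y) :
    ∃ n ∈ X.N, n * x * n⁻¹ = y := by
  haveI : Fact (Nat.Prime 2) := ⟨Nat.prime_two⟩
  obtain ⟨g, hg⟩ := isConj_iff.1 h
  exact CfsgLib.Transfer.exists_mem_normalizer_conj X.S
    (Subgroup.mem_centralizer_iff.2 fun s hs => (X.inU_comm hx hs).symm)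
    (Subgroup.mem_centralizer_iff.2 fun s hs => (X.inU_comm hy hs).symm) hg

/-- A homomorphism on `D` with value `v` on the reflections. -/
theorem exists_theta (v : X.V) : ∃ θ : X.D →* X.V,
    ∀ d : X.D, (∀ i, (d : G) = X.rot i → θ d = 1) ∧ (∀ i, (d : G) = X.el i → θ d = v) := by
  have hv : v * v = 1 := Subtype.ext (X.sqV v v.2)
  obtain ⟨f, hf⟩ := exists_dihedralHom ((show 2 ∣ 4 by norm_num).trans X.hm) hv hv rfl
  refine ⟨f.comp X.e.toMonoidHom, fun d => ⟨fun i hi => ?_, fun i hi => ?_⟩⟩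
  · rw [show d = X.e.symm (DihedralGroup.r i) from Subtype.ext hi]
    simp [(hf i).1, hv]
  · rw [show d = X.e.symm (DihedralGroup.sr i) from Subtype.ext hi]
    simp [(hf i).2, hv]

/-- `x ↦ fst x ^ ε * θ (snd x)`. -/
noncomputable def chi (ε : ℕ) (θ : X.D →* X.V) : (X.S : Subgroup G) →* X.V :=
  MonoidHom.mk' (fun x => (X.coord x).1 ^ ε * θ (X.coord x).2) fun x y => by
    have hc : ∀ a b : X.V, a * b = b * a := fun a b => Subtype.ext (X.V_comm a.2 b.2)
    rw [map_mul, Prod.fst_mul, Prod.snd_mul, map_mul, Commute.mul_pow (hc _ _)]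
    simp only [mul_assoc]
    rw [← mul_assoc ((X.coord y).1 ^ ε), hc ((X.coord y).1 ^ ε) (θ (X.coord x).2), mul_assoc]

theorem chi_mul (ε : ℕ) (θ : X.D →* X.V) {a d : G} (ha : a ∈ X.V) (hd : d ∈ X.D) :
    X.chi ε θ ⟨a * d, mul_mem (X.le_V ha) (X.le_D hd)⟩ = ⟨a, ha⟩ ^ ε * θ ⟨d, hd⟩ := by
  show (X.coord _).1 ^ ε * θ (X.coord _).2 = _
  rw [X.coord_mul ha hd]

/-- Thompson transfer along a homomorphism to `V`. -/
theorem transfer_mem (h2 : ∀ N : Subgroup G, N.Normal → N.index ≠ 2)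
    (χ : (X.S : Subgroup G) →* X.V) (w : X.V) (u : (X.S : Subgroup G)) (hu : orderOf (u : G) = 2)
    (hw : w ≠ 1) (hχ : χ u ≠ 1) (hχw : χ u ≠ w) :
    ∃ (g : G) (y : (X.S : Subgroup G)), (y : G) = g * u * g⁻¹ ∧ (χ y = 1 ∨ χ y = w) := by
  have hw2 : w * w = 1 := Subtype.ext (X.sqV w w.2)
  let W : Subgroup X.V :=
    { carrier := {a | a = 1 ∨ a = w}
      one_mem' := Or.inl rfl
      mul_mem' := by
        rintro a b (rfl | rfl) (rfl | rfl)
        exacts [Or.inl (one_mul 1), Or.inr (one_mul _), Or.inr (mul_one _), Or.inl hw2]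
      inv_mem' := by
        rintro a (rfl | rfl)
        exacts [Or.inl inv_one, Or.inr (inv_eq_of_mul_eq_one_right hw2)] }
  have hidx : (W.comap χ).index = 2 := by
    refine Subgroup.index_eq_two_iff.2 ⟨u, fun b => ?_⟩
    rw [Subgroup.mem_comap, Subgroup.mem_comap, map_mul]
    show Xor' (χ b * χ u = 1 ∨ χ b * χ u = w) (χ b = 1 ∨ χ b = w)
    have hbu : ∀ {c : X.V}, χ b * χ u = c → χ b = c * χ u := fun {c} h => by
      rw [← h, mul_assoc, show χ u * χ u = 1 from Subtype.ext (X.sqV _ (χ u).2), mul_one]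
    rcases X.V_cases w.2 (χ u).2 (fun e => hw (Subtype.ext e)) (fun e => hχ (Subtype.ext e))
      (fun e => hχw (Subtype.ext e).symm) (χ b).2 with e | e | e | e
    · have e' : χ b = 1 := Subtype.ext e
      exact Or.inr ⟨Or.inl e', by rw [e', one_mul]; rintro (h | h); exacts [hχ h, hχw h]⟩
    · have e' : χ b = w := Subtype.ext e
      refine Or.inr ⟨Or.inr e', ?_⟩
      rw [e']
      rintro (h | h)
      · exact hχw (inv_eq_of_mul_eq_one_right h ▸ inv_eq_of_mul_eq_one_right hw2)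
      · exact hχ (mul_eq_left.1 h)
    · have e' : χ b = χ u := Subtype.ext e
      refine Or.inl ⟨Or.inl ?_, ?_⟩
      · rw [e']; exact Subtype.ext (X.sqV _ (χ u).2)
      · rw [e']; rintro (h | h); exacts [hχ h, hχw h]
    · have e' : χ b = w * χ u := Subtype.ext e
      refine Or.inl ⟨Or.inr ?_, ?_⟩
      · rw [e', mul_assoc, show χ u * χ u = 1 from Subtype.ext (X.sqV _ (χ u).2), mul_one]
      · rw [e']
        rintro (h | h)
        · exact hχw (inv_eq_of_mul_eq_one_right h ▸ inv_eq_of_mul_eq_one_right hw2)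
        · exact hχ (mul_eq_left.1 h)
  have hrel : ((W.comap χ).map (X.S : Subgroup G).subtype).relIndex (X.S : Subgroup G) = 2 := by
    rw [Subgroup.relIndex, Subgroup.subgroupOf,
      Subgroup.comap_map_eq_self_of_injective (Subgroup.subtype_injective _), hidx]
  by_contra h
  push Not at h
  obtain ⟨M, hM, hM2, -⟩ := CfsgLib.Transfer.exists_index_two_of_not_conj_mem X.S
    (Subgroup.map_subtype_le _) hrel hu fun g => by
      rintro ⟨y, hy, e⟩
      rcases hy with hy | hy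
      exacts [(h g y e).1 hy, (h g y e).2 hy]
  exact h2 M hM hM2

theorem orderOf_two {x : G} (h : x * x = 1) (h1 : x ≠ 1) : orderOf x = 2 :=
  orderOf_eq_prime (by rw [pow_two, h]) h1

theorem Vz_ne {a : G} (ha : a ∈ X.V) (hd : G) (hh : hd = X.z) : a * hd ≠ 1 := fun h => X.z_ne (by
  subst hh
  exact (X.mul_uniq ha (one_mem _) X.z_mem (one_mem _) (by rw [h, mul_one])).2)

/-- Some element of the normalizer moves the centre of `S`. -/
theorem exists_move (h2 : ∀ N : Subgroup G, N.Normal → N.index ≠ 2) :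
    ∃ n ∈ X.N, ∃ u, X.InU u ∧ n * u * n⁻¹ ≠ u := by
  classical
  by_contra h
  push Not at h
  have hne : ∀ x y, X.InU x → X.InU y → IsConj x y → x = y := fun x y hx hy hc => by
    obtain ⟨n, hn, e⟩ := X.burnside hx hy hc
    rw [← e, h n hn x hx]
  let uu : {a : X.V // a ≠ 1} × Bool → G := fun p =>
    if p.2 then ((p.1.1 : X.V) : G) * X.z else ((p.1.1 : X.V) : G)
  have uu_inj : Function.Injective uu := by
    rintro ⟨⟨a, ha⟩, _ | _⟩ ⟨⟨b, hb⟩, _ | _⟩ e <;> simp only [uu, if_true, Bool.false_eq_true,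
      if_false] at e
    · obtain rfl : a = b := Subtype.ext e
      rfl
    · exact absurd (X.mul_uniq a.2 b.2 (one_mem _) X.z_mem (by rw [e, mul_one])).2.symm X.z_ne
    · exact absurd (X.mul_uniq a.2 b.2 X.z_mem (one_mem _) (by rw [e, mul_one])).2 X.z_ne
    · obtain rfl : a = b := Subtype.ext (mul_right_cancel e)
      rfl
  have key : ∀ p, ∃ q : Bool → X.V × ZMod X.m, (q true).1 ≠ (q false).1 ∧
      ∀ j, IsConj (uu p) (((q j).1 : G) * X.el (q j).2) := by
    rintro ⟨⟨v, hv⟩, b⟩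
    obtain ⟨w, hw, hwv⟩ : ∃ w : X.V, w ≠ 1 ∧ w ≠ v := by
      by_contra hc
      push Not at hc
      have hall : ∀ w : X.V, w = 1 ∨ w = v := fun w => (em (w = 1)).imp_right (hc w)
      have := Nat.card_le_card_of_surjective (fun t : Bool => if t then v else 1) (fun w => by
        rcases hall w with rfl | rfl
        exacts [⟨false, rfl⟩, ⟨true, rfl⟩])
      rw [X.cardV] at this
      simp at this
    obtain ⟨θ, hθ⟩ := X.exists_theta v
    obtain ⟨θ1, hθ1⟩ := X.exists_theta 1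
    set u := uu (⟨v, hv⟩, b) with hu
    have hdu : ∃ d ∈ X.D, u = (v : G) * d ∧ ∃ i, d = X.rot i := by
      rcases b with _ | _
      · exact ⟨1, one_mem _, (mul_one _).symm, 0, X.rot_zero.symm⟩
      · exact ⟨X.z, X.z_mem, rfl, _, rfl⟩
    obtain ⟨d, hd, hud, i0, hi0⟩ := hdu
    have hU : X.InU u := by
      rcases b with _ | _
      exacts [X.V_inU v.2, X.Vz_inU v.2]
    have ho : orderOf u = 2 := Conf.orderOf_two (X.inU_sq hU) (by
      rcases b with _ | _
      · exact fun e => hv (Subtype.ext e)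
      · exact X.Vz_ne v.2 _ rfl)
    have main : ∀ θ' : X.D →* X.V, θ' ⟨d, hd⟩ = 1 → ∃ (a : X.V) (i : ZMod X.m),
        IsConj u ((a : G) * X.el i) ∧
          (a * θ' ⟨X.el i, X.el_mem i⟩ = 1 ∨ a * θ' ⟨X.el i, X.el_mem i⟩ = w) := by
      intro θ' hθ'
      have hχu : X.chi 1 θ' ⟨u, X.inU_mem hU⟩ = v := by
        have := X.chi_mul 1 θ' v.2 hd
        rw [pow_one, hθ', mul_one] at this
        simp only [← hud] at this
        exact this
      obtain ⟨g, y, hy, hχy⟩ := X.transfer_mem h2 (X.chi 1 θ') w ⟨u, X.inU_mem hU⟩ ho hw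
        (by rw [hχu]; exact hv) (by rw [hχu]; exact hwv.symm)
      have hc : IsConj u (y : G) := isConj_iff.2 ⟨g, hy.symm⟩
      have hy2 : (y : G) * y = 1 := by rw [hy, conj_mul, X.inU_sq hU]; simp
      rcases X.invol_cases y.2 hy2 with hyU | ⟨a, ha, i, e⟩
      · exfalso
        have hyu : y = ⟨u, X.inU_mem hU⟩ := Subtype.ext (hne u y hU hyU hc).symm
        rw [hyu, hχu] at hχy
        rcases hχy with h' | h'
        exacts [hv h', hwv h'.symm]
      · refine ⟨⟨a, ha⟩, i, e ▸ hc, ?_⟩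
        have hye : y = ⟨a * X.el i, mul_mem (X.le_V ha) (X.le_D (X.el_mem i))⟩ := Subtype.ext e
        rwa [hye, X.chi_mul 1 θ' ha (X.el_mem i), pow_one] at hχy
    obtain ⟨a, i, hai, ha⟩ := main θ ((hθ ⟨d, hd⟩).1 i0 hi0)
    obtain ⟨a', i', hai', ha'⟩ := main θ1 ((hθ1 ⟨d, hd⟩).1 i0 hi0)
    rw [(hθ ⟨X.el i, X.el_mem i⟩).2 i rfl] at ha
    rw [(hθ1 ⟨X.el i', X.el_mem i'⟩).2 i' rfl, mul_one] at ha'
    refine ⟨fun j => if j then (a, i) else (a', i'), ?_, fun j => by cases j; exacts [hai', hai]⟩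
    simp only [if_true, Bool.false_eq_true, if_false]
    intro e
    subst e
    rcases ha' with e1 | e1 <;> rw [e1] at ha
    · rcases ha with h' | h'
      exacts [hv (by rwa [one_mul] at h'), hwv (by rw [one_mul] at h'; exact h'.symm)]
    · rcases ha with h' | h'
      · exact hwv (inv_eq_of_mul_eq_one_right h' ▸ (inv_eq_of_mul_eq_one_right
          (show w * w = 1 from Subtype.ext (X.sqV w w.2))).symm)
      · exact hv (mul_eq_left.1 h')
  choose q hq1 hq2 using key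
  let f : ({a : X.V // a ≠ 1} × Bool) × Bool → X.V × ZMod 2 :=
    fun p => ((q p.1 p.2).1, X.par (q p.1 p.2).2)
  have hf : Function.Injective f := by
    rintro ⟨p, j⟩ ⟨p', j'⟩ e
    obtain ⟨e1, e2⟩ := Prod.mk.injEq _ _ _ _ ▸ e
    have hc : IsConj (uu p) (uu p') := by
      refine (hq2 p j).trans (IsConj.trans ?_ (hq2 p' j').symm)
      have e1' : ((q p j).1 : G) = (q p' j').1 := congrArg Subtype.val e1
      rw [e1']
      exact X.isConj_el (q p' j').1.2 e2
    have hU : ∀ p, X.InU (uu p) := by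
      rintro ⟨⟨a, ha⟩, _ | _⟩
      exacts [X.V_inU a.2, X.Vz_inU a.2]
    have hp := uu_inj (hne _ _ (hU p) (hU p') hc)
    subst hp
    cases j <;> cases j'
    · rfl
    · exact absurd e1.symm (hq1 p)
    · exact absurd e1 (hq1 p)
    · rfl
  have h1 := Nat.card_le_card_of_injective f hf
  haveI := Fintype.ofFinite X.V
  have h3 : Nat.card {a : X.V // a ≠ 1} = 3 := by
    rw [Nat.card_eq_fintype_card, Fintype.card_subtype_compl, Fintype.card_subtype_eq,
      ← Nat.card_eq_fintype_card, X.cardV]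
  rw [Nat.card_prod, Nat.card_prod, Nat.card_prod, h3, X.cardV] at h1
  simp at h1

/-- A triangle in the centre. -/
theorem exists_triangle (h2 : ∀ N : Subgroup G, N.Normal → N.index ≠ 2) :
    ∃ n ∈ X.N, ∃ v, X.InU v ∧ ∃ a ∈ X.V, ∃ b ∈ X.V, a ≠ 1 ∧ b ≠ 1 ∧ a ≠ b ∧
      (v = a ∨ v = a * X.z) ∧ (n * v * n⁻¹ = b ∨ n * v * n⁻¹ = b * X.z) ∧
      n * (n * v * n⁻¹) * n⁻¹ = v * (n * v * n⁻¹) := by
  obtain ⟨n, hn, u, hu, hne⟩ := X.exists_move h2
  have hz := X.z_fixed hn
  set f : G → G := fun x => n * x * n⁻¹ with hf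
  have f_mul : ∀ x y, f (x * y) = f x * f y := fun x y => (conj_mul).symm
  have f_inj : Function.Injective f := fun x y e => mul_left_cancel (mul_right_cancel e)
  have hU : ∀ {x}, X.InU x → X.InU (f x) := fun hx => X.inU_conj hn hx
  -- two elements with equal first coordinates differ by a power of `z`
  obtain ⟨a, ha, hua⟩ := id hu
  obtain ⟨b, hb, hub⟩ := id (hU hu)
  obtain ⟨c, hc, huc⟩ := id (hU (hU hu))
  have ha1 : a ≠ 1 := by
    rintro rfl
    rcases hua with rfl | rfl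
    · exact hne (by group)
    · exact hne (by rw [one_mul, hz])
  have hb1 : b ≠ 1 := by
    rintro rfl
    rcases hub with e | e
    · exact hne (by rw [conj_eq_one_iff.1 e]; group)
    · rw [one_mul] at e
      exact hne (by rw [f_inj (e.trans hz.symm), hz])
  have hfz : ∀ {x : G}, f (x * X.z) = f x * X.z := fun {x} => by
    rw [f_mul]; exact congrArg (f x * ·) hz
  have hab : a ≠ b := by
    rintro rfl
    have h1 : f u = u ∨ f u = u * X.z := by
      rcases hua with e | e <;> rcases hub with e' | e'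
      · exact Or.inl (e'.trans e.symm)
      · exact Or.inr (by rw [e', e])
      · exact Or.inr (by rw [e', e, mul_assoc, X.z_sq, mul_one])
      · exact Or.inl (e'.trans e.symm)
    rcases h1 with h1 | h1
    · exact hne h1
    · refine hne (X.odd_fix hn hu ?_)
      show f (f u) = u
      rw [h1, hfz, h1, mul_assoc, X.z_sq, mul_one]
  have hz2 : ∀ {x}, x * X.z * X.z = x := fun {x} => by rw [mul_assoc, X.z_sq, mul_one]
  have hca : c ≠ a := by
    rintro rfl
    have h1 : f (f u) = u ∨ f (f u) = u * X.z := by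
      rcases hua with e | e <;> rcases huc with e' | e'
      · exact Or.inl (e'.trans e.symm)
      · exact Or.inr (by rw [e', e])
      · exact Or.inr (by rw [e', e, hz2])
      · exact Or.inl (e'.trans e.symm)
    rcases h1 with h1 | h1
    · exact hne (X.odd_fix hn hu h1)
    · have h4 : n * n * (n * n * u * (n * n)⁻¹) * (n * n)⁻¹ = u := by
        calc n * n * (n * n * u * (n * n)⁻¹) * (n * n)⁻¹ = f (f (f (f u))) := by
              simp only [hf]; group
          _ = u := by rw [h1, hfz, hfz, h1, hz2]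
      have h5 := X.odd_fix (mul_mem hn hn) hu h4
      refine hne (X.odd_fix hn hu ?_)
      calc n * (n * u * n⁻¹) * n⁻¹ = n * n * u * (n * n)⁻¹ := by group
        _ = u := h5
  have hcb : c ≠ b := by
    rintro rfl
    have h1 : f (f u) = f u ∨ f (f u) = f (u * X.z) := by
      rw [hfz]
      rcases hub with e | e <;> rcases huc with e' | e'
      · exact Or.inl (e'.trans e.symm)
      · exact Or.inr (e'.trans (by rw [show f u = c from e]))
      · exact Or.inr (e'.trans (by rw [show f u = c * X.z from e, hz2]))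
      · exact Or.inl (e'.trans e.symm)
    rcases h1 with h1 | h1
    · exact hne (f_inj h1)
    · refine hne (X.odd_fix hn hu ?_)
      show f (f u) = u
      rw [f_inj h1, hfz, f_inj h1, hz2]
  have hc1 : c ≠ 1 := by
    rintro rfl
    rcases huc with e | e
    · exact hb1 (by
        have h1 : f u = 1 := conj_eq_one_iff.1 e
        rcases hub with e' | e'
        · exact e'.symm.trans h1
        · exact absurd (e'.symm.trans h1) (X.Vz_ne hb _ rfl))
    · rw [one_mul] at e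
      have h1 : f u = X.z := f_inj (e.trans hz.symm)
      rcases hub with e' | e'
      · exact hb1 (X.mul_uniq hb (one_mem _) (one_mem _) X.z_mem
          (by rw [mul_one, one_mul, ← h1]; exact e'.symm)).1
      · exact hb1 (mul_eq_right.1 (e'.symm.trans h1))
  have hcab : c = a * b := by
    rcases X.V_cases ha hb ha1 hb1 hab hc with e | e | e | e
    exacts [absurd e hc1, absurd e hca, absurd e hcb, e]
  have h1 : f (f u) = u * f u ∨ f (f u) = u * f u * X.z := by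
    have hcz : X.z * b = b * X.z := (X.comm hb X.z_mem).symm
    rcases hua with rfl | rfl <;> rcases hub with e' | e' <;> rcases huc with e'' | e'' <;>
      simp only [show f _ = _ from e'] at e'' ⊢ <;> rw [e'', hcab]
    · exact Or.inl rfl
    · exact Or.inr rfl
    · exact Or.inr (by simp only [mul_assoc, X.z_sq, mul_one])
    · exact Or.inl (by simp only [mul_assoc])
    · exact Or.inr (by rw [mul_assoc a X.z, hcz, ← mul_assoc, hz2])
    · exact Or.inl (by rw [mul_assoc a X.z, hcz, ← mul_assoc])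
    · exact Or.inl (by rw [mul_assoc a X.z, ← mul_assoc X.z, hcz, mul_assoc b, X.z_sq, mul_one])
    · exact Or.inr (by rw [mul_assoc a X.z, ← mul_assoc X.z, hcz, mul_assoc b, X.z_sq, mul_one])
  rcases h1 with h1 | h1
  · exact ⟨n, hn, u, hu, a, ha, b, hb, ha1, hb1, hab, hua, hub, h1⟩
  · refine ⟨n, hn, u * X.z, X.inU_mul hu X.z_inU, a, ha, b, hb, ha1, hb1, hab, ?_, ?_, ?_⟩
    · rcases hua with rfl | rfl
      exacts [Or.inr rfl, Or.inl hz2]
    · change f (u * X.z) = b ∨ f (u * X.z) = b * X.z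
      rw [hfz]
      rcases hub with e | e
      exacts [Or.inr (congrArg (· * X.z) e), Or.inl (by rw [show f u = b * X.z from e, hz2])]
    · show f (f (u * X.z)) = u * X.z * f (u * X.z)
      rw [hfz, hfz, h1, hz2, mul_assoc u X.z,
        ← mul_assoc X.z, X.inU_comm X.z_inU (X.inU_mem (hU hu)), mul_assoc (f u), X.z_sq, mul_one]

end Conf


variable [Finite G]

/-- Coordinates adapted to a triangle in the centre. -/
theorem exists_adapted (X : Conf G) (h2 : ∀ N : Subgroup G, N.Normal → N.index ≠ 2) :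
    ∃ Y : Conf G, Y.S = X.S ∧ Y.D = X.D ∧ Y.m = X.m ∧ ∃ n ∈ Y.N, ∃ v ∈ Y.V, ∃ w ∈ Y.V,
      v ≠ 1 ∧ w ≠ 1 ∧ v ≠ w ∧ n * v * n⁻¹ = w ∧ n * w * n⁻¹ = v * w := by
  obtain ⟨n, hn, v, hv, a, ha, b, hb, ha1, hb1, hab, hva, hwb, htri⟩ := X.exists_triangle h2
  set w := n * v * n⁻¹ with hw'
  have hw : X.InU w := X.inU_conj hn hv
  have vv : v * v = 1 := X.inU_sq hv
  have ww : w * w = 1 := X.inU_sq hw
  have vw : v * w = w * v := X.inU_comm hv (X.inU_mem hw)
  let V' : Subgroup G :=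
    { carrier := {x | x = 1 ∨ x = v ∨ x = w ∨ x = v * w}
      one_mem' := Or.inl rfl
      mul_mem' := by
        rintro x y (rfl | rfl | rfl | rfl) (rfl | rfl | rfl | rfl) <;>
          simp only [Set.mem_setOf_eq, one_mul, mul_one, vv, ww, true_or, or_true]
        · exact Or.inr (Or.inr (Or.inl (by rw [← mul_assoc, vv, one_mul])))
        · exact Or.inr (Or.inr (Or.inr vw.symm))
        · exact Or.inr (Or.inl (by rw [← mul_assoc, ← vw, mul_assoc, ww, mul_one]))
        · exact Or.inr (Or.inr (Or.inl (by rw [vw, mul_assoc, vv, mul_one])))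
        · exact Or.inr (Or.inl (by rw [mul_assoc, ww, mul_one]))
        · exact Or.inl (by rw [mul_assoc, ← mul_assoc w v w, ← vw, mul_assoc v w w, ww, mul_one, vv])
      inv_mem' := by
        rintro x (rfl | rfl | rfl | rfl)
        · exact Or.inl inv_one
        · exact Or.inr (Or.inl (inv_eq_of_mul_eq_one_right vv))
        · exact Or.inr (Or.inr (Or.inl (inv_eq_of_mul_eq_one_right ww)))
        · refine Or.inr (Or.inr (Or.inr (inv_eq_of_mul_eq_one_right ?_)))
          rw [mul_assoc, ← mul_assoc w v w, ← vw, mul_assoc v w w, ww, mul_one, vv] }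
  have hV'U : ∀ x ∈ V', X.InU x := by
    rintro x (rfl | rfl | rfl | rfl)
    exacts [X.one_inU, hv, hw, X.inU_mul hv hw]
  -- the first coordinates of `v`, `w`, `v * w`
  have hco : ∀ x ∈ V', x = 1 ∨ ∃ c ∈ X.V, c ≠ 1 ∧ (x = c ∨ x = c * X.z) := by
    rintro x (rfl | rfl | rfl | rfl)
    · exact Or.inl rfl
    · exact Or.inr ⟨a, ha, ha1, hva⟩
    · exact Or.inr ⟨b, hb, hb1, hwb⟩
    · refine Or.inr ⟨a * b, mul_mem ha hb, fun e => hab ?_, ?_⟩
      · calc a = a * (b * b) := by rw [X.sqV b hb, mul_one]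
          _ = b := by rw [← mul_assoc, e, one_mul]
      · have hcz : X.z * b = b * X.z := (X.comm hb X.z_mem).symm
        rcases hva with e | e <;> rcases hwb with e' | e' <;> rw [e, e']
        · exact Or.inl rfl
        · exact Or.inr (mul_assoc _ _ _).symm
        · exact Or.inr (by rw [mul_assoc, hcz, mul_assoc])
        · exact Or.inl (by rw [mul_assoc, ← mul_assoc X.z, hcz, mul_assoc b, X.z_sq, mul_one])
  have hinf : V' ⊓ X.D = ⊥ := by
    rw [eq_bot_iff]
    intro x hx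
    obtain ⟨hxV, hxD⟩ := Subgroup.mem_inf.1 hx
    rcases hco x hxV with rfl | ⟨c, hc, hc1, e⟩
    · exact one_mem _
    · exfalso
      have h' : (1 : G) * x = x := one_mul x
      rcases e with e | e
      · exact hc1 (X.mul_uniq hc (one_mem _) (one_mem _) hxD (by rw [mul_one, h', e])).1
      · exact hc1 (X.mul_uniq hc (one_mem _) X.z_mem hxD (by rw [h', e])).1
  have hv1 : v ≠ 1 := by
    rcases hva with e | e
    exacts [e ▸ ha1, e ▸ X.Vz_ne ha _ rfl]
  have hw1 : w ≠ 1 := by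
    rcases hwb with e | e
    exacts [e ▸ hb1, e ▸ X.Vz_ne hb _ rfl]
  have hvw : v ≠ w := by
    intro e
    rcases hva with e1 | e1 <;> rcases hwb with e2 | e2
    · exact hab (e1.symm.trans (e.trans e2))
    · exact hab (X.mul_uniq ha hb (one_mem _) X.z_mem (by rw [mul_one, ← e1, ← e2, e])).1
    · exact hab (X.mul_uniq ha hb X.z_mem (one_mem _) (by rw [mul_one, ← e1, ← e2, e])).1
    · exact hab (X.mul_uniq ha hb X.z_mem X.z_mem (by rw [← e1, ← e2, e])).1
  have hvw1 : v * w ≠ 1 := fun e => hvw (by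
    calc v = v * (w * w) := by rw [ww, mul_one]
      _ = w := by rw [← mul_assoc, e, one_mul])
  have hcard : Nat.card V' = 4 := by
    classical
    have : (V' : Set G) = (({1, v, w, v * w} : Finset G) : Set G) := by
      ext x
      show (x = 1 ∨ x = v ∨ x = w ∨ x = v * w) ↔ _
      simp
    rw [← SetLike.coe_sort_coe, this, Nat.card_coe_set_eq, Set.ncard_coe_finset,
      Finset.card_insert_of_notMem, Finset.card_insert_of_notMem, Finset.card_insert_of_notMem,
      Finset.card_singleton]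
    · simpa using fun e : w = v * w => hv1 (mul_eq_right.1 e.symm)
    · simp only [Finset.mem_insert, Finset.mem_singleton, not_or]
      exact ⟨hvw, fun e => hw1 (left_eq_mul.1 e)⟩
    · simp only [Finset.mem_insert, Finset.mem_singleton, not_or]
      exact ⟨Ne.symm hv1, Ne.symm hw1, Ne.symm hvw1⟩
  have hle : V' ≤ (X.S : Subgroup G) := fun x hx => X.inU_mem (hV'U x hx)
  have hsup : V' ⊔ X.D = (X.S : Subgroup G) := by
    refine le_antisymm (sup_le hle X.le_D) fun x hx => ?_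
    obtain ⟨c, hc, d, hd, rfl⟩ := X.dec hx
    refine mul_mem ?_ (Subgroup.mem_sup_right hd)
    have hz : X.z ∈ V' ⊔ X.D := Subgroup.mem_sup_right X.z_mem
    have hgen : ∀ {y c : G}, y ∈ V' → (y = c ∨ y = c * X.z) → c ∈ V' ⊔ X.D := by
      rintro y c hy (rfl | rfl)
      · exact Subgroup.mem_sup_left hy
      · exact (Subgroup.mul_mem_cancel_right _ hz).1 (Subgroup.mem_sup_left hy)
    have hA : a ∈ V' ⊔ X.D := hgen (Or.inr (Or.inl rfl)) hva
    have hB : b ∈ V' ⊔ X.D := hgen (Or.inr (Or.inr (Or.inl rfl))) hwb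
    rcases X.V_cases ha hb ha1 hb1 hab hc with rfl | rfl | rfl | rfl
    exacts [one_mem _, hA, hB, mul_mem hA hB]
  refine ⟨{ X with
    V := V'
    hD := ⟨hle, X.le_D, fun x hx d hd => X.inU_comm (hV'U x hx) (X.le_D hd), hinf, hsup⟩
    cardV := hcard
    sqV := fun x hx => X.inU_sq (hV'U x hx) }, rfl, rfl, rfl, n, hn, v, Or.inr (Or.inl rfl), w,
    Or.inr (Or.inr (Or.inl rfl)), hv1, hw1, hvw, rfl, htri⟩

/-- Coordinates with an element of the normalizer transitive on `V`. -/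
structure Data (G : Type u) [Group G] [Finite G] extends Conf G where
  n : G
  hn : n ∈ toConf.N
  v : G
  w : G
  hv : v ∈ V
  hw : w ∈ V
  hv1 : v ≠ 1
  hw1 : w ≠ 1
  hvw : v ≠ w
  nv : n * v * n⁻¹ = w
  nw : n * w * n⁻¹ = v * w
  h2 : ∀ N : Subgroup G, N.Normal → N.index ≠ 2

namespace Data

variable (A : Data G)


theorem nvw : A.n * (A.v * A.w) * A.n⁻¹ = A.v := by
  rw [← conj_mul, A.nv, A.nw, A.toConf.V_comm A.hv A.hw, ← mul_assoc, A.sqV _ A.hw, one_mul]

theorem cases_V {a : G} (ha : a ∈ A.V) : a = 1 ∨ a = A.v ∨ a = A.w ∨ a = A.v * A.w :=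
  A.toConf.V_cases A.hv A.hw A.hv1 A.hw1 A.hvw ha

theorem f_mem {a : G} (ha : a ∈ A.V) : A.n * a * A.n⁻¹ ∈ A.V := by
  rcases A.cases_V ha with rfl | rfl | rfl | rfl
  · rw [mul_one, mul_inv_cancel]; exact one_mem _
  · rw [A.nv]; exact A.hw
  · rw [A.nw]; exact mul_mem A.hv A.hw
  · rw [A.nvw]; exact A.hv

theorem f_ne {a : G} (ha : a ∈ A.V) (h1 : a ≠ 1) : A.n * a * A.n⁻¹ ≠ a := by
  rcases A.cases_V ha with rfl | rfl | rfl | rfl
  · exact absurd rfl h1
  · rw [A.nv]; exact Ne.symm A.hvw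
  · rw [A.nw]; exact fun e => A.hv1 (mul_eq_right.1 e)
  · rw [A.nvw]; exact fun e => A.hw1 (left_eq_mul.1 e)

theorem f_sum {a : G} (ha : a ∈ A.V) :
    A.n * (A.n * a * A.n⁻¹) * A.n⁻¹ * a = A.n * a * A.n⁻¹ := by
  rcases A.cases_V ha with rfl | rfl | rfl | rfl
  · simp
  · rw [A.nv, A.nw, A.toConf.V_comm A.hv A.hw, mul_assoc, A.sqV _ A.hv, mul_one]
  · rw [A.nw, A.nvw]
  · rw [A.nvw, A.nv, A.toConf.V_comm A.hv A.hw, ← mul_assoc, A.sqV _ A.hw, one_mul]

/-- Any two nontrivial elements of `V` are moved to each other by a power of `n`. -/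
theorem exists_pow {a : G} (ha : a ∈ A.V) (h1 : a ≠ 1) :
    ∃ k ∈ A.toConf.N, k * A.v * k⁻¹ = a := by
  rcases A.cases_V ha with rfl | rfl | rfl | rfl
  · exact absurd rfl h1
  · exact ⟨1, one_mem _, by simp⟩
  · exact ⟨A.n, A.hn, A.nv⟩
  · exact ⟨A.n * A.n, mul_mem A.hn A.hn, by rw [← A.nw, ← A.nv]; group⟩

theorem isConj_v {a : G} (ha : a ∈ A.V) (h1 : a ≠ 1) :
    IsConj A.v a ∧ IsConj (A.v * A.z) (a * A.z) := by
  obtain ⟨k, hk, e⟩ := A.exists_pow ha h1
  refine ⟨isConj_iff.2 ⟨k, e⟩, isConj_iff.2 ⟨k, ?_⟩⟩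
  rw [← conj_mul, e, A.toConf.z_fixed hk]

theorem not_conj_z {x : G} (hx : A.InU x) (h : IsConj x A.z) : x = A.z := by
  obtain ⟨m, hm, e⟩ := A.toConf.burnside hx A.toConf.z_inU h
  exact mul_left_cancel (mul_right_cancel (e.trans (A.toConf.z_fixed hm).symm))

theorem sep {a b : G} (ha : a ∈ A.V) (hb : b ∈ A.V) (ha1 : a ≠ 1) (hb1 : b ≠ 1) :
    ¬ IsConj a (b * A.z) := by
  intro h
  obtain ⟨k, hk, ek⟩ := A.exists_pow ha ha1
  obtain ⟨l, hl, el⟩ := A.exists_pow hb hb1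
  obtain ⟨m, hm, e⟩ := A.toConf.burnside (A.toConf.V_inU ha) (A.toConf.Vz_inU hb) h
  set j := k * l⁻¹ * m
  have hj : j ∈ A.toConf.N := mul_mem (mul_mem hk (inv_mem hl)) hm
  have e1 : j * a * j⁻¹ = a * A.z := by
    calc j * a * j⁻¹ = k * l⁻¹ * (m * a * m⁻¹) * (k * l⁻¹)⁻¹ := by simp only [j]; group
      _ = k * l⁻¹ * b * (k * l⁻¹)⁻¹ * (k * l⁻¹ * A.z * (k * l⁻¹)⁻¹) := by rw [e, conj_mul]
      _ = _ := by
        rw [A.toConf.z_fixed (mul_mem hk (inv_mem hl)), ← ek, ← el]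
        group
  have e2 : j * (j * a * j⁻¹) * j⁻¹ = a := by
    rw [e1, ← conj_mul, e1, A.toConf.z_fixed hj, mul_assoc, A.toConf.z_sq, mul_one]
  have e3 := A.toConf.odd_fix hj (A.toConf.V_inU ha) e2
  rw [e1] at e3
  exact A.toConf.z_ne (mul_eq_left.1 e3)

theorem ne_of_InU {c : G} (hc : A.InU c) (h1 : c ≠ 1) (hz : c ≠ A.z) :
    ∃ a ∈ A.V, a ≠ 1 ∧ (c = a ∨ c = a * A.z) := by
  obtain ⟨a, ha, e⟩ := hc
  refine ⟨a, ha, ?_, e⟩
  rintro rfl
  rcases e with e | e
  · exact h1 e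
  · rw [one_mul] at e; exact hz e

/-- Every involution of `S` is conjugate to an element of the centre of `S`. -/
theorem central_conj {x : G} (hx : x ∈ (A.S : Subgroup G)) (h : x * x = 1) :
    ∃ c, A.InU c ∧ IsConj x c := by
  rcases A.toConf.invol_cases hx h with hU | ⟨a, ha, i, e⟩
  · exact ⟨x, hU, IsConj.refl x⟩
  obtain ⟨θ, hθ⟩ := A.toConf.exists_theta ⟨A.v, A.hv⟩
  have hx1 : x ≠ 1 := fun e' => A.toConf.not_inU_el ha i (e ▸ e'.symm ▸ A.toConf.one_inU)
  have hxeq : (⟨x, hx⟩ : (A.S : Subgroup G)) =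
      ⟨a * A.el i, mul_mem (A.toConf.le_V ha) (A.toConf.le_D (A.toConf.el_mem i))⟩ := Subtype.ext e
  have hχ : A.toConf.chi 0 θ ⟨x, hx⟩ = ⟨A.v, A.hv⟩ := by
    rw [hxeq, A.toConf.chi_mul 0 θ ha (A.toConf.el_mem i), pow_zero, one_mul]
    exact (hθ _).2 i rfl
  obtain ⟨g, y, hy, hy'⟩ := A.toConf.transfer_mem A.h2 (A.toConf.chi 0 θ) ⟨A.w, A.hw⟩ ⟨x, hx⟩
    (Conf.orderOf_two h hx1) (fun e' => A.hw1 (congrArg Subtype.val e'))
    (by rw [hχ]; exact fun e' => A.hv1 (congrArg Subtype.val e'))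
    (by rw [hχ]; exact fun e' => A.hvw (congrArg Subtype.val e'))
  refine ⟨y, ?_, isConj_iff.2 ⟨g, hy.symm⟩⟩
  rcases A.toConf.invol_cases y.2 (by rw [hy, conj_mul, h]; simp) with hU | ⟨b, hb, j, ey⟩
  · exact hU
  · exfalso
    have hye : y = ⟨b * A.el j, mul_mem (A.toConf.le_V hb) (A.toConf.le_D (A.toConf.el_mem j))⟩ :=
      Subtype.ext ey
    rw [hye, A.toConf.chi_mul 0 θ hb (A.toConf.el_mem j), pow_zero, one_mul,
      (hθ ⟨A.el j, A.toConf.el_mem j⟩).2 j rfl] at hy'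
    rcases hy' with e' | e'
    exacts [A.hv1 (congrArg Subtype.val e'), A.hvw (congrArg Subtype.val e')]

/-- The shift of parity by an element of the normalizer. -/
def Shift (m : G) (q : ZMod 2) : Prop :=
  ∀ a ∈ A.V, ∀ i, ∃ b ∈ A.V, ∃ j, m * (a * A.el i) * m⁻¹ = b * A.el j ∧ A.par j = A.par i + q

theorem par_el_conj {d : G} (hd : d ∈ A.D) (i : ZMod A.m) :
    ∃ j, d * A.el i * d⁻¹ = A.el j ∧ A.par j = A.par i := by
  have h2 : ∀ x : ZMod 2, x + x = 0 := by decide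
  rcases A.toConf.cases_D hd with ⟨k, rfl⟩ | ⟨k, rfl⟩
  · refine ⟨i - k + -k, by rw [A.toConf.rot_inv, A.toConf.rot_el, A.toConf.el_rot], ?_⟩
    simp only [Conf.par, map_add, map_sub, map_neg]
    linear_combination -h2 (ZMod.castHom ((show 2 ∣ 4 by norm_num).trans A.hm) (ZMod 2) k)
  · refine ⟨k - (i - k), ?_, ?_⟩
    · rw [inv_eq_of_mul_eq_one_left (A.toConf.el_sq k), A.toConf.el_el, A.toConf.rot_el]
    · simp only [Conf.par, map_sub]
      linear_combination h2 (ZMod.castHom ((show 2 ∣ 4 by norm_num).trans A.hm) (ZMod 2) k) -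
        h2 (ZMod.castHom ((show 2 ∣ 4 by norm_num).trans A.hm) (ZMod 2) i)

theorem shift_S {s : G} (hs : s ∈ (A.S : Subgroup G)) : A.Shift s 0 := by
  intro a ha i
  obtain ⟨c, hc, d, hd, rfl⟩ := A.toConf.dec hs
  obtain ⟨j, hj, hp⟩ := A.par_el_conj hd i
  refine ⟨a, ha, j, ?_, by rw [hp, add_zero]⟩
  have h1 : c * (a * A.el j) * c⁻¹ = a * A.el j := by
    rw [← mul_assoc, A.toConf.V_comm hc ha, mul_assoc a c, A.toConf.comm hc (A.toConf.el_mem j),
      ← mul_assoc, mul_inv_cancel_right]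
  calc c * d * (a * A.el i) * (c * d)⁻¹ = c * (d * a * A.el i * d⁻¹) * c⁻¹ := by group
    _ = c * (a * (d * A.el i * d⁻¹)) * c⁻¹ := by
      rw [← A.toConf.comm ha hd]; simp only [mul_assoc]
    _ = _ := by rw [hj, h1]

theorem Shift.mul {m m' : G} {q q' : ZMod 2} (h : A.Shift m q) (h' : A.Shift m' q') :
    A.Shift (m * m') (q + q') := by
  intro a ha i
  obtain ⟨b, hb, j, e, hp⟩ := h' a ha i
  obtain ⟨c, hc, l, e', hp'⟩ := h b hb j
  refine ⟨c, hc, l, ?_, by rw [hp', hp]; ring⟩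
  rw [← e', ← e]
  group

theorem Shift.unique {m : G} {q q' : ZMod 2} (h : A.Shift m q) (h' : A.Shift m q') : q = q' := by
  obtain ⟨b, hb, j, e, hp⟩ := h 1 (one_mem _) 0
  obtain ⟨b', hb', j', e', hp'⟩ := h' 1 (one_mem _) 0
  have := (A.toConf.mul_uniq hb hb' (A.toConf.el_mem j) (A.toConf.el_mem j') (e.symm.trans e')).2
  rw [A.toConf.el_inj this, hp'] at hp
  exact (add_left_cancel hp).symm

theorem exists_shift {m : G} (hm : m ∈ A.toConf.N) : ∃ q, A.Shift m q := by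
  have himg : ∀ a ∈ A.V, ∀ i, ∃ b ∈ A.V, ∃ j, m * (a * A.el i) * m⁻¹ = b * A.el j := by
    intro a ha i
    rcases A.toConf.invol_cases (A.toConf.conj_mem_S hm
      (mul_mem (A.toConf.le_V ha) (A.toConf.le_D (A.toConf.el_mem i))))
      (by rw [conj_mul, A.toConf.el_invol ha i]; simp) with hU | hU
    · exfalso
      refine A.toConf.not_inU_el ha i ?_
      have := A.toConf.inU_conj (inv_mem hm) hU
      rwa [show m⁻¹ * (m * (a * A.el i) * m⁻¹) * m⁻¹⁻¹ = a * A.el i by group] at this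
    · exact hU
  choose B hB J hJ using himg
  -- equal parities have images of equal parity
  have hstep : ∀ m' ∈ A.toConf.N, ∀ a ∈ A.V, ∀ a' ∈ A.V, ∀ i i', A.par i = A.par i' →
      ∀ b ∈ A.V, ∀ b' ∈ A.V, ∀ j j', m' * (a * A.el i) * m'⁻¹ = b * A.el j →
        m' * (a' * A.el i') * m'⁻¹ = b' * A.el j' → A.par j = A.par j' := by
    intro m' hm' a ha a' ha' i i' hp b hb b' hb' j j' e e'
    obtain ⟨d, hd, hde⟩ := A.toConf.exists_conj_el hp
    obtain ⟨c, hc, l, hl, hlp⟩ := A.shift_S (A.toConf.conj_mem_S hm' (A.toConf.le_D hd)) b hb j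
    obtain ⟨c0, hc0, hc0e⟩ : ∃ c0, A.InU c0 ∧ m' * (a' * a) * m'⁻¹ = c0 :=
      ⟨_, A.toConf.inU_conj hm' (A.toConf.V_inU (mul_mem ha' ha)), rfl⟩
    have h1 : b' * A.el j' = c0 * (c * A.el l) := by
      rw [← e', ← hl, ← e, ← hc0e]
      have h3 : d * (a * A.el i) * d⁻¹ = a * A.el i' := by
        rw [← mul_assoc, ← A.toConf.comm ha hd, mul_assoc a, mul_assoc a, hde]
      have h4 : a' * A.el i' = a' * a * (d * (a * A.el i) * d⁻¹) := by
        rw [h3, mul_assoc, ← mul_assoc a a, A.sqV a ha, one_mul]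
      rw [h4]
      group
    obtain ⟨c1, hc1, e1 | e1⟩ := hc0
    · have := (A.toConf.mul_uniq hb' (mul_mem hc1 hc) (A.toConf.el_mem j') (A.toConf.el_mem l)
        (by rw [h1, e1, mul_assoc])).2
      rw [A.toConf.el_inj this, hlp, add_zero]
    · have hzl : A.z * A.el l = A.el l * A.z := A.toConf.z_comm (A.toConf.el_mem l)
      have := (A.toConf.mul_uniq hb' (mul_mem hc1 hc) (A.toConf.el_mem j')
        (A.toConf.el_mem (l + ((A.m / 2 : ℕ) : ZMod A.m))) (by
        rw [h1, e1, mul_assoc c1, ← mul_assoc A.z, ← A.toConf.comm hc A.toConf.z_mem, mul_assoc c,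
          hzl, A.toConf.el_mul_z, mul_assoc])).2
      rw [A.toConf.el_inj this]
      have h0 := A.toConf.par_half
      simp only [Conf.par, map_add] at hlp h0 ⊢
      rw [h0, add_zero, hlp, add_zero]
  have hp0 : A.par 0 = 0 := map_zero _
  have hp1 : A.par 1 = 1 := map_one _
  have z2 : ∀ x : ZMod 2, x = 0 ∨ x = 1 := by decide
  set q := A.par (J 1 (one_mem _) 0) with hq
  refine ⟨q, fun a ha i => ⟨B a ha i, hB a ha i, J a ha i, hJ a ha i, ?_⟩⟩
  have hne : A.par (J 1 (one_mem _) 1) ≠ q := by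
    intro e
    have hback : ∀ k, m⁻¹ * (B 1 (one_mem _) k * A.el (J 1 (one_mem _) k)) * m⁻¹⁻¹ =
        (1 : G) * A.el k := fun k => by rw [← hJ 1 (one_mem _) k]; group
    have := hstep m⁻¹ (inv_mem hm) _ (hB 1 (one_mem _) 1) _ (hB 1 (one_mem _) 0) _ _ e
      1 (one_mem _) 1 (one_mem _) 1 0 (hback 1) (hback 0)
    rw [hp1, hp0] at this
    exact one_ne_zero this
  rcases z2 (A.par i) with h | h
  · rw [h, zero_add]
    exact hstep m hm a ha 1 (one_mem _) i 0 (by rw [h, hp0]) _ (hB a ha i) _ (hB 1 (one_mem _) 0)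
      _ _ (hJ a ha i) (hJ 1 (one_mem _) 0)
  · rw [h]
    rw [hstep m hm a ha 1 (one_mem _) i 1 (by rw [h, hp1]) _ (hB a ha i) _ (hB 1 (one_mem _) 1)
      _ _ (hJ a ha i) (hJ 1 (one_mem _) 1)]
    rcases z2 q with hq' | hq' <;> rcases z2 (A.par (J 1 (one_mem _) 1)) with h' | h' <;>
      rw [hq'] at hne ⊢ <;> rw [h'] at hne ⊢ <;> first | exact absurd rfl hne | rfl

theorem shift_n : A.Shift A.n 0 := by
  obtain ⟨q, hq⟩ := A.exists_shift A.hn
  obtain ⟨k, hk⟩ := A.toConf.exists_odd_pow A.hn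
  have hpow : ∀ k : ℕ, A.Shift (A.n ^ (2 * k + 1)) q := by
    intro k
    induction k with
    | zero => simpa using hq
    | succ k ih =>
      have := (ih.mul A hq).mul A hq
      rwa [show q + q + q = q from (show ∀ x : ZMod 2, x + x + x = x by decide) q, ← pow_succ, ← pow_succ,
        show 2 * k + 1 + 1 + 1 = 2 * (k + 1) + 1 by ring] at this
  rwa [(hpow k).unique A (A.shift_S hk)] at hq

/-- The centralizer in `S` of a reflection. -/
def cX (i : ZMod A.m) : Subgroup G :=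
  (A.S : Subgroup G) ⊓ Subgroup.centralizer ({A.el i} : Set G)

theorem mem_cX {i : ZMod A.m} {x : G} :
    x ∈ A.cX i ↔ A.InU x ∨ ∃ a ∈ A.V, x = a * A.el i ∨ x = a * A.el i * A.z := by
  rw [cX, Subgroup.mem_inf, Subgroup.mem_centralizer_singleton_iff]
  constructor
  · rintro ⟨hx, h⟩
    obtain ⟨a, ha, d, hd, rfl⟩ := A.toConf.dec hx
    have hd' : d * A.el i = A.el i * d := by
      rw [mul_assoc, ← mul_assoc (A.el i), ← A.toConf.comm ha (A.toConf.el_mem i),
        mul_assoc a] at h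
      exact mul_left_cancel h
    rcases A.toConf.cases_D hd with ⟨k, rfl⟩ | ⟨k, rfl⟩
    · left
      rw [A.toConf.rot_el, A.toConf.el_rot] at hd'
      rcases A.toConf.eq_half (show k + k = 0 by linear_combination -(A.toConf.el_inj hd')) with
        rfl | rfl
      · exact ⟨a, ha, Or.inl (by rw [A.toConf.rot_zero, mul_one])⟩
      · exact ⟨a, ha, Or.inr rfl⟩
    · right
      rw [A.toConf.el_el, A.toConf.el_el] at hd'
      refine ⟨a, ha, ?_⟩
      rcases A.toConf.eq_half (show (k - i) + (k - i) = 0 by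
        linear_combination -(A.toConf.rot_inj hd')) with h0 | h0
      · rw [sub_eq_zero.1 h0]; exact Or.inl rfl
      · right
        rw [mul_assoc, A.toConf.el_mul_z, show k = i + ((A.m / 2 : ℕ) : ZMod A.m) by
          linear_combination h0]
  · rintro (h | ⟨a, ha, rfl | rfl⟩)
    · exact ⟨A.toConf.inU_mem h, A.toConf.inU_comm h (A.toConf.le_D (A.toConf.el_mem i))⟩
    · refine ⟨mul_mem (A.toConf.le_V ha) (A.toConf.le_D (A.toConf.el_mem i)), ?_⟩
      rw [mul_assoc, A.toConf.comm ha (mul_mem (A.toConf.el_mem i) (A.toConf.el_mem i)), mul_assoc,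
        ← A.toConf.comm ha (A.toConf.el_mem i)]
    · refine ⟨mul_mem (mul_mem (A.toConf.le_V ha) (A.toConf.le_D (A.toConf.el_mem i)))
        (A.toConf.le_D A.toConf.z_mem), ?_⟩
      rw [mul_assoc a (A.el i), ← A.toConf.z_comm (A.toConf.el_mem i), mul_assoc, mul_assoc A.z,
        A.toConf.el_sq, mul_one, ← mul_assoc (A.el i), ← A.toConf.comm ha (A.toConf.el_mem i),
        mul_assoc a, A.toConf.z_comm (A.toConf.el_mem i), ← mul_assoc (A.el i), A.toConf.el_sq,
        one_mul]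

theorem card_cX (i : ZMod A.m) : Nat.card (A.cX i) = 16 := by
  let g : A.V × Bool × Bool → G := fun p =>
    (p.1 : G) * (cond p.2.1 (A.el i) 1 * cond p.2.2 A.z 1)
  have hmem : ∀ p, g p ∈ A.cX i := by
    rintro ⟨a, _ | _, _ | _⟩ <;> rw [A.mem_cX] <;> simp only [g, cond_true, cond_false]
    · exact Or.inl ⟨a, a.2, Or.inl (by rw [one_mul, mul_one])⟩
    · exact Or.inl ⟨a, a.2, Or.inr (by rw [one_mul])⟩
    · exact Or.inr ⟨a, a.2, Or.inl (by rw [mul_one])⟩
    · exact Or.inr ⟨a, a.2, Or.inr (mul_assoc _ _ _).symm⟩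
  have hD : ∀ e t : Bool, cond e (A.el i) 1 * cond t A.z 1 ∈ A.D := by
    intro e t
    refine mul_mem ?_ ?_
    · cases e; exacts [one_mem _, A.toConf.el_mem i]
    · cases t; exacts [one_mem _, A.toConf.z_mem]
  have hz0 : A.el i ≠ 1 := fun e => A.toConf.el_ne_rot i 0 (e.trans A.toConf.rot_zero.symm)
  have hzz : A.el i ≠ A.z := fun e => A.toConf.el_ne_rot i _ e
  have hinj : Function.Injective g := by
    rintro ⟨a, e, t⟩ ⟨a', e', t'⟩ h
    obtain ⟨h1, h2⟩ := A.toConf.mul_uniq a.2 a'.2 (hD e t) (hD e' t') h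
    obtain rfl : a = a' := Subtype.ext h1
    have hez : A.el i * A.z ≠ 1 := fun e0 => hzz (by
      calc A.el i = A.el i * (A.z * A.z) := by rw [A.toConf.z_sq, mul_one]
        _ = A.z := by rw [← mul_assoc, e0, one_mul])
    have hee : A.el i * A.z ≠ A.z := fun e0 => hz0 (mul_eq_right.1 e0)
    have hel : A.el i * A.z ≠ A.el i := fun e0 => A.toConf.z_ne (mul_eq_left.1 e0)
    cases e <;> cases t <;> cases e' <;> cases t' <;>
      simp only [cond_true, cond_false, one_mul, mul_one] at h2 <;>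
      first
        | rfl
        | exact absurd h2 A.toConf.z_ne
        | exact absurd h2.symm A.toConf.z_ne
        | exact absurd h2 hz0
        | exact absurd h2.symm hz0
        | exact absurd h2 hzz
        | exact absurd h2.symm hzz
        | exact absurd h2 hez
        | exact absurd h2.symm hez
        | exact absurd h2 hee
        | exact absurd h2.symm hee
        | exact absurd h2 hel
        | exact absurd h2.symm hel
  have hsurj : ∀ x ∈ A.cX i, ∃ p, g p = x := by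
    intro x hx
    rcases A.mem_cX.1 hx with ⟨a, ha, rfl | rfl⟩ | ⟨a, ha, rfl | rfl⟩
    · exact ⟨(⟨x, ha⟩, false, false), by simp [g]⟩
    · exact ⟨(⟨a, ha⟩, false, true), by simp [g]⟩
    · exact ⟨(⟨a, ha⟩, true, false), by simp [g]⟩
    · exact ⟨(⟨a, ha⟩, true, true), by simp [g, mul_assoc]⟩
  rw [← Nat.card_congr (Equiv.ofBijective (fun p => (⟨g p, hmem p⟩ : A.cX i))
    ⟨fun p q h => hinj (congrArg Subtype.val h), fun x => by
      obtain ⟨p, hp⟩ := hsurj x x.2
      exact ⟨p, Subtype.ext hp⟩⟩), Nat.card_prod, Nat.card_prod, A.cardV, Nat.card_eq_fintype_card,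
    Fintype.card_bool]

/-- Moving `x` to `c` pulls the centre back into the centralizer of `x`. -/
theorem exists_back {a : G} (ha : a ∈ A.V) (i : ZMod A.m) {c : G} (hc : A.InU c)
    (h : IsConj (a * A.el i) c) :
    ∃ g : G, g * (a * A.el i) * g⁻¹ = c ∧ ∀ u, A.InU u → g⁻¹ * u * g ∈ A.cX i := by
  haveI : Fact (Nat.Prime 2) := ⟨Nat.prime_two⟩
  obtain ⟨g₀, hg₀⟩ := isConj_iff.1 h
  set x := a * A.el i
  have hxc : ∀ y ∈ A.cX i, y * x = x * y := by
    intro y hy
    have h1 := (Subgroup.mem_inf.1 hy)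
    rw [← mul_assoc, ← A.toConf.inU_comm (A.toConf.V_inU ha) h1.1, mul_assoc,
      Subgroup.mem_centralizer_singleton_iff.1 h1.2, ← mul_assoc]
  have hle : (A.cX i).map (MulAut.conj g₀).toMonoidHom ≤ Subgroup.centralizer ({c} : Set G) := by
    rintro _ ⟨y, hy, rfl⟩
    rw [Subgroup.mem_centralizer_singleton_iff, ← hg₀, MulEquiv.coe_toMonoidHom, MulAut.conj_apply,
      conj_mul, conj_mul, hxc y hy]
  have hScC : (A.S : Subgroup G) ≤ Subgroup.centralizer ({c} : Set G) := fun s hs =>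
    Subgroup.mem_centralizer_singleton_iff.2 (A.toConf.inU_comm hc hs).symm
  obtain ⟨k, hk, hkS⟩ := CfsgLib.Transfer.exists_conj_le_of_isPGroup A.S.2 hScC
    (fun hd => A.S.not_dvd_index (hd.trans (Subgroup.relIndex_dvd_index_of_le hScC)))
    ((A.S.2.to_le inf_le_left).map _) hle
  set g := k⁻¹ * g₀ with hg
  have hgx : g * x * g⁻¹ = c := by
    calc g * x * g⁻¹ = k⁻¹ * (g₀ * x * g₀⁻¹) * k := by rw [hg]; group
      _ = c := by
        rw [hg₀, mul_assoc, ← Subgroup.mem_centralizer_singleton_iff.1 hk, ← mul_assoc,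
          inv_mul_cancel, one_mul]
  refine ⟨g, hgx, ?_⟩
  set E := (A.cX i).map (MulAut.conj g).toMonoidHom with hE
  have hES : E ≤ (A.S : Subgroup G) := by
    rintro _ ⟨y, hy, rfl⟩
    have := hkS _ ⟨y, hy, rfl⟩
    rw [MulEquiv.coe_toMonoidHom, MulAut.conj_apply] at this ⊢
    convert this using 1
    rw [hg]; group
  have hEcard : Nat.card E = 16 := by
    rw [hE, Subgroup.card_map_of_injective (MulAut.conj g).injective, A.card_cX]
  -- exponent two and commutative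
  have hXsq : ∀ y ∈ A.cX i, y * y = 1 := by
    intro y hy
    rcases A.mem_cX.1 hy with h' | ⟨b, hb, rfl | rfl⟩
    · exact A.toConf.inU_sq h'
    · exact A.toConf.el_invol hb i
    · rw [mul_assoc b, A.toConf.el_mul_z]; exact A.toConf.el_invol hb _
  have hEsq : ∀ y ∈ E, y * y = 1 := by
    rintro _ ⟨y, hy, rfl⟩
    rw [← map_mul, hXsq y hy, map_one]
  have hEcomm : ∀ p ∈ E, ∀ q ∈ E, p * q = q * p := by
    intro p hp q hq
    have hi : ∀ r ∈ E, r⁻¹ = r := fun r hr => inv_eq_of_mul_eq_one_left (hEsq r hr)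
    calc p * q = (p * q)⁻¹ := (hi _ (mul_mem hp hq)).symm
      _ = q * p := by rw [mul_inv_rev, hi p hp, hi q hq]
  have hUE : ∀ u, A.InU u → u ∈ E := by
    intro u hu
    by_cases hnc : ∃ y ∈ E, ¬ A.InU y
    · obtain ⟨y, hy, hyU⟩ := hnc
      obtain ⟨b, hb, j, rfl⟩ := (A.toConf.invol_cases (hES hy) (hEsq y hy)).resolve_left hyU
      have hEle : E ≤ A.cX j := by
        intro p hp
        refine Subgroup.mem_inf.2 ⟨hES hp, Subgroup.mem_centralizer_singleton_iff.2 ?_⟩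
        have h1 := hEcomm p hp _ hy
        rw [← mul_assoc, ← A.toConf.inU_comm (A.toConf.V_inU hb) (hES hp), mul_assoc, mul_assoc] at h1
        exact mul_left_cancel h1
      rw [Subgroup.eq_of_le_of_card_ge hEle (by rw [hEcard, A.card_cX])]
      exact A.mem_cX.2 (Or.inl hu)
    · push Not at hnc
      exfalso
      have hEle : E ≤ A.cX 0 := fun p hp => A.mem_cX.2 (Or.inl (hnc p hp))
      have he : A.el 0 ∈ E := by
        rw [Subgroup.eq_of_le_of_card_ge hEle (by rw [hEcard, A.card_cX])]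
        exact A.mem_cX.2 (Or.inr ⟨1, one_mem _, Or.inl (one_mul _).symm⟩)
      exact A.toConf.not_inU_el (one_mem _) 0 (by rw [one_mul]; exact hnc _ he)
  intro u hu
  obtain ⟨y, hy, e⟩ := hUE u hu
  rw [← e, MulEquiv.coe_toMonoidHom, MulAut.conj_apply,
    show g⁻¹ * (g * y * g⁻¹) * g = y by group]
  exact hy

/-- Elements of the centralizer of a reflection outside the centre, up to conjugation. -/
theorem cX_cases {i : ZMod A.m} {y : G} (hy : y ∈ A.cX i) :
    A.InU y ∨ ∃ b ∈ A.V, IsConj y (b * A.el i) := by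
  rcases A.mem_cX.1 hy with h | ⟨b, hb, rfl | rfl⟩
  exacts [Or.inl h, Or.inr ⟨b, hb, IsConj.refl _⟩, Or.inr ⟨b, hb, (A.toConf.isConj_mul_z hb i).symm⟩]

theorem exists_conj_z (i : ZMod A.m) : ∃ b ∈ A.V, IsConj (b * A.el i) A.z := by
  by_contra hno
  push Not at hno
  set x := (1 : G) * A.el i with hx
  obtain ⟨c, hc, hxc⟩ := A.central_conj (mul_mem (one_mem _) (A.toConf.le_D (A.toConf.el_mem i)))
    (A.toConf.el_invol (one_mem A.V) i)
  obtain ⟨g, hg, hgb⟩ := A.exists_back (one_mem _) i hc hxc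
  have hc1 : c ≠ 1 := fun e => A.toConf.not_inU_el (one_mem _) i (by
    rw [show (1 : G) * A.el i = 1 from conj_eq_one_iff.1 (hg.trans e)]
    exact A.toConf.one_inU)
  have hcz : c ≠ A.z := fun e => hno 1 (one_mem _) (e ▸ hxc)
  have hgz : g⁻¹ * A.z * g = A.z := by
    have hcj : IsConj (g⁻¹ * A.z * g) A.z := isConj_iff.2 ⟨g, by group⟩
    rcases A.cX_cases (hgb _ A.toConf.z_inU) with h | ⟨b, hb, h⟩
    · exact A.not_conj_z h hcj
    · exact absurd (h.symm.trans hcj) (hno b hb)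
  obtain ⟨a, ha, ha1, e⟩ := A.ne_of_InU hc hc1 hcz
  have hcc : IsConj c (c * A.z) := by
    have h1 : g * (x * A.z) * g⁻¹ = c * A.z := by
      rw [← conj_mul, hg]
      conv_lhs => rw [← hgz]
      group
    exact hxc.symm.trans ((A.toConf.isConj_mul_z (one_mem _) i).trans (isConj_iff.2 ⟨g, h1⟩))
  rcases e with rfl | rfl
  · exact A.sep ha ha ha1 ha1 hcc
  · rw [mul_assoc, A.toConf.z_sq, mul_one] at hcc
    exact A.sep ha ha ha1 ha1 hcc.symm

theorem exists_conj_vz (i : ZMod A.m) : ∃ b ∈ A.V, IsConj (b * A.el i) (A.v * A.z) := by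
  by_contra hno
  push Not at hno
  obtain ⟨c, hc, hxc⟩ := A.central_conj (mul_mem (one_mem _) (A.toConf.le_D (A.toConf.el_mem i)))
    (A.toConf.el_invol (one_mem A.V) i)
  obtain ⟨g, hg, hgb⟩ := A.exists_back (one_mem _) i hc hxc
  have hA : ∀ a ∈ A.V, a ≠ 1 → A.InU (g⁻¹ * (a * A.z) * g) := by
    intro a ha ha1
    have hcj : IsConj (g⁻¹ * (a * A.z) * g) (A.v * A.z) :=
      (isConj_iff.2 ⟨g, by group⟩ : IsConj (g⁻¹ * (a * A.z) * g) (a * A.z)).trans
        (A.isConj_v ha ha1).2.symm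
    rcases A.cX_cases (hgb _ (A.toConf.Vz_inU ha)) with h | ⟨b, hb, h⟩
    · exact h
    · exact absurd (h.symm.trans hcj) (hno b hb)
  have hmul : ∀ p q, A.InU (g⁻¹ * p * g) → A.InU (g⁻¹ * q * g) → A.InU (g⁻¹ * (p * q) * g) :=
    fun p q hp hq => by
      rw [show g⁻¹ * (p * q) * g = g⁻¹ * p * g * (g⁻¹ * q * g) by group]
      exact A.toConf.inU_mul hp hq
  have hV : ∀ a ∈ A.V, A.InU (g⁻¹ * a * g) := by
    intro a ha
    by_cases ha1 : a = 1
    · subst ha1; rw [mul_one, inv_mul_cancel]; exact A.toConf.one_inU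
    have hfa := A.f_mem ha
    have hfa1 : A.n * a * A.n⁻¹ ≠ 1 := fun e => ha1 (conj_eq_one_iff.1 e)
    have hffa1 : A.n * (A.n * a * A.n⁻¹) * A.n⁻¹ ≠ 1 := fun e => hfa1 (conj_eq_one_iff.1 e)
    have hffa := A.f_mem hfa
    have he : a = A.n * (A.n * a * A.n⁻¹) * A.n⁻¹ * (A.n * a * A.n⁻¹) :=
      calc a = A.n * (A.n * a * A.n⁻¹) * A.n⁻¹ *
              (A.n * (A.n * a * A.n⁻¹) * A.n⁻¹ * a) := by
            rw [← mul_assoc, A.sqV _ hffa, one_mul]
        _ = _ := congrArg _ (A.f_sum ha)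
    have := hmul _ _ (hA _ hffa hffa1) (hA _ hfa hfa1)
    rw [mul_assoc (A.n * (A.n * a * A.n⁻¹) * A.n⁻¹) A.z, ← mul_assoc A.z,
      ← A.toConf.comm hfa A.toConf.z_mem, mul_assoc (A.n * a * A.n⁻¹) A.z, A.toConf.z_sq, mul_one,
      ← he] at this
    exact this
  have hz : A.InU (g⁻¹ * A.z * g) := by
    have := hmul _ _ (hV A.v A.hv) (hA A.v A.hv A.hv1)
    rwa [show A.v * (A.v * A.z) = A.z by rw [← mul_assoc, A.sqV _ A.hv, one_mul]] at this
  have hcU : A.InU (g⁻¹ * c * g) := by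
    obtain ⟨a, ha, rfl | rfl⟩ := id hc
    exacts [hV _ ha, hmul _ _ (hV _ ha) hz]
  rw [← hg, show g⁻¹ * (g * (1 * A.el i) * g⁻¹) * g = 1 * A.el i by group] at hcU
  exact A.toConf.not_inU_el (one_mem _) i hcU

theorem zv_ne : ¬ IsConj A.z (A.v * A.z) := fun h => by
  have := A.not_conj_z (A.toConf.Vz_inU A.hv) h.symm
  exact A.hv1 (mul_eq_right.1 this)

/-- The conjugacy classes of the involutions outside the centre. -/
theorem label (i : ZMod A.m) : ∃ b₀ ∈ A.V, IsConj (b₀ * A.el i) A.z ∧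
    ∀ b ∈ A.V, b ≠ b₀ → IsConj (b * A.el i) (A.v * A.z) := by
  obtain ⟨a, ha, j, e, hp⟩ := A.shift_n 1 (one_mem _) i
  rw [one_mul] at e
  rw [add_zero] at hp
  set b₀ := A.n * a * A.n⁻¹ with hb₀
  have hb₀V : b₀ ∈ A.V := A.f_mem ha
  have hstep : ∀ b ∈ A.V, IsConj (b * A.el i) (A.n * b * A.n⁻¹ * a * A.el i) := by
    intro b hb
    have h1 : IsConj (b * A.el i) (A.n * b * A.n⁻¹ * a * A.el j) :=
      isConj_iff.2 ⟨A.n, by rw [← conj_mul, e, ← mul_assoc]⟩
    exact h1.trans (A.toConf.isConj_el (mul_mem (A.f_mem hb) ha) hp)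
  have hc : ∀ c ∈ A.V, IsConj (b₀ * c * A.el i) (b₀ * (A.n * c * A.n⁻¹) * A.el i) := by
    intro c hc
    have h1 := hstep _ (mul_mem hb₀V hc)
    rwa [← conj_mul, mul_assoc (A.n * b₀ * A.n⁻¹) (A.n * c * A.n⁻¹) a,
      A.toConf.V_comm (A.f_mem hc) ha, ← mul_assoc (A.n * b₀ * A.n⁻¹), hb₀, A.f_sum ha, ← hb₀] at h1
  have horb : ∀ c ∈ A.V, c ≠ 1 → IsConj (b₀ * A.v * A.el i) (b₀ * c * A.el i) := by
    have h1 := hc _ A.hv
    rw [A.nv] at h1
    have h2 := hc _ A.hw
    rw [A.nw] at h2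
    intro c hcV hc1
    rcases A.cases_V hcV with rfl | rfl | rfl | rfl
    exacts [absurd rfl hc1, IsConj.refl _, h1, h1.trans h2]
  have hother : ∀ b ∈ A.V, b ≠ b₀ → IsConj (b₀ * A.v * A.el i) (b * A.el i) := by
    intro b hb hne
    have h1 := horb (b₀ * b) (mul_mem hb₀V hb) (fun e => hne (by
      calc b = b₀ * b₀ * b := by rw [A.sqV _ hb₀V, one_mul]
        _ = b₀ := by rw [mul_assoc, e, mul_one]))
    rwa [← mul_assoc b₀ b₀, A.sqV _ hb₀V, one_mul] at h1
  obtain ⟨bz, hbz, hZ⟩ := A.exists_conj_z i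
  obtain ⟨ba, hba, hA⟩ := A.exists_conj_vz i
  by_cases hz0 : bz = b₀
  · subst hz0
    have hne : ba ≠ b₀ := fun e => A.zv_ne (hZ.symm.trans (e ▸ hA))
    exact ⟨b₀, hb₀V, hZ, fun b hb hb' => ((hother b hb hb').symm.trans (hother ba hba hne)).trans hA⟩
  exfalso
  have hZall : ∀ b ∈ A.V, b ≠ b₀ → IsConj (b * A.el i) A.z := fun b hb hb' =>
    ((hother b hb hb').symm.trans (hother bz hbz hz0)).trans hZ
  have hbab : ba = b₀ := by
    by_contra hne
    exact A.zv_ne ((hZall ba hba hne).symm.trans hA)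
  clear_value b₀
  subst hbab
  have hxS := mul_mem (A.toConf.le_V hba) (A.toConf.le_D (A.toConf.el_mem i))
  obtain ⟨c, hcU, hxc⟩ := A.central_conj hxS (A.toConf.el_invol hba i)
  have hcA : IsConj c (A.v * A.z) := hxc.symm.trans hA
  obtain ⟨g, hg, hgb⟩ := A.exists_back hba i hcU hxc
  obtain ⟨b, hb, hb1, hcb⟩ := A.ne_of_InU hcU
    (fun e => A.toConf.not_inU_el hba i (by
      rw [conj_eq_one_iff.1 (hg.trans e)]; exact A.toConf.one_inU))
    (fun e => A.zv_ne (e ▸ hcA))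
  have hcb' : c = b * A.z := hcb.resolve_left fun e => A.sep hb A.hv hb1 A.hv1 (e ▸ hcA)
  subst hcb'
  have hback : ∀ d ∈ A.V, d ≠ 1 → g⁻¹ * d * g ∈ A.V := by
    intro d hd hd1
    have hcj : IsConj (g⁻¹ * d * g) A.v :=
      (isConj_iff.2 ⟨g, by group⟩ : IsConj (g⁻¹ * d * g) d).trans (A.isConj_v hd hd1).1.symm
    rcases A.cX_cases (hgb _ (A.toConf.V_inU hd)) with h | ⟨q, hq, h⟩
    · obtain ⟨p, hp, e' | e'⟩ := h
      · rw [e']; exact hp
      · exfalso
        rw [e'] at hcj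
        by_cases hp1 : p = 1
        · subst hp1
          rw [one_mul] at hcj
          have := A.not_conj_z (A.toConf.V_inU A.hv) hcj.symm
          exact A.toConf.z_ne (A.toConf.mul_uniq A.hv (one_mem _) (one_mem _) A.toConf.z_mem
            (by rw [mul_one, one_mul, this])).2.symm
        · exact A.sep A.hv hp A.hv1 hp1 hcj.symm
    · exfalso
      by_cases hq0 : q = ba
      · subst hq0
        exact A.sep A.hv A.hv A.hv1 A.hv1 (hcj.symm.trans (h.trans hA))
      · have h' := (hcj.symm.trans (h.trans (hZall q hq hq0)))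
        have := A.not_conj_z (A.toConf.V_inU A.hv) h'
        exact A.toConf.z_ne (A.toConf.mul_uniq A.hv (one_mem _) (one_mem _) A.toConf.z_mem
          (by rw [mul_one, one_mul, this])).2.symm
  have hfb := A.f_mem hb
  have hfb1 : A.n * b * A.n⁻¹ ≠ 1 := fun e => hb1 (conj_eq_one_iff.1 e)
  have hprod1 : b * (A.n * b * A.n⁻¹) ≠ 1 := fun e => A.f_ne hb hb1 (by
    calc A.n * b * A.n⁻¹ = b * b * (A.n * b * A.n⁻¹) := by rw [A.sqV b hb, one_mul]
      _ = b := by rw [mul_assoc, e, mul_one])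
  have hy : g⁻¹ * (b * A.z * (A.n * b * A.n⁻¹)) * g =
      ba * (g⁻¹ * (A.n * b * A.n⁻¹) * g) * A.el i := by
    rw [← hg]
    have hd := hback _ hfb hfb1
    calc g⁻¹ * (g * (ba * A.el i) * g⁻¹ * (A.n * b * A.n⁻¹)) * g
        = ba * (A.el i * (g⁻¹ * (A.n * b * A.n⁻¹) * g)) := by group
      _ = _ := by rw [← A.toConf.comm hd (A.toConf.el_mem i), ← mul_assoc]
  have hne : ba * (g⁻¹ * (A.n * b * A.n⁻¹) * g) ≠ ba := fun e => hfb1 (by
    have := mul_eq_left.1 e
    rwa [show g⁻¹ * (A.n * b * A.n⁻¹) * g = g⁻¹ * (A.n * b * A.n⁻¹) * g⁻¹⁻¹ by rw [inv_inv],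
      conj_eq_one_iff] at this)
  have hZy := hZall _ (mul_mem hba (hback _ hfb hfb1)) hne
  rw [← hy] at hZy
  have hAy : IsConj (g⁻¹ * (b * A.z * (A.n * b * A.n⁻¹)) * g) (A.v * A.z) := by
    refine (isConj_iff.2 ⟨g, ?_⟩).trans (A.isConj_v (mul_mem hb hfb) hprod1).2.symm
    rw [show g * (g⁻¹ * (b * A.z * (A.n * b * A.n⁻¹)) * g) * g⁻¹ = b * A.z * (A.n * b * A.n⁻¹) by
      group, mul_assoc b A.z, ← A.toConf.comm hfb A.toConf.z_mem, ← mul_assoc b]
  exact A.zv_ne (hZy.symm.trans hAy)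

/-- The factorisation. -/
theorem invClosed : ∃ S₂ : Subgroup G, IsInternalDirectProduct A.V S₂ (A.S : Subgroup G) ∧
    Nonempty (S₂ ≃* DihedralGroup A.m) ∧ InvClosed A.V (A.S : Subgroup G) ∧
      InvClosed S₂ (A.S : Subgroup G) := by
  choose β hβV hβz hβA using A.label
  have hβsq : ∀ i, β i * β i = 1 := fun i => A.sqV _ (hβV i)
  obtain ⟨h, hh⟩ := exists_dihedralHom ((show 2 ∣ 4 by norm_num).trans A.hm) (hβsq 0) (hβsq 1)
    (A.toConf.V_comm (hβV 0) (hβV 1))
  set φ : A.D →* G := h.comp A.e.toMonoidHom with hφ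
  have hφel : ∀ i, φ ⟨A.el i, A.toConf.el_mem i⟩ = β (if A.par i = 0 then 0 else 1) := by
    intro i
    have e : A.e ⟨A.el i, A.toConf.el_mem i⟩ = DihedralGroup.sr i :=
      A.e.apply_symm_apply (DihedralGroup.sr i)
    show h (A.e ⟨A.el i, A.toConf.el_mem i⟩) = _
    rw [e, (hh i).2]
    have z2 : ∀ x : ZMod 2, x = 0 ∨ x = 1 := by decide
    rcases z2 (A.par i) with hi | hi <;> rw [hi] <;>
      rw [show (ZMod.castHom _ (ZMod 2)) i = A.par i from rfl, hi]
    · simp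
    · rw [show ZMod.val (1 : ZMod 2) = 1 from rfl, pow_one, ← mul_assoc, hβsq 0, one_mul]
      simp
  have hmemV : ∀ d, φ d ∈ A.V := by
    intro d
    show h (A.e d) ∈ A.V
    rcases A.e d with i | i
    · rw [(hh i).1]; exact pow_mem (mul_mem (hβV 0) (hβV 1)) _
    · rw [(hh i).2]; exact mul_mem (hβV 0) (pow_mem (mul_mem (hβV 0) (hβV 1)) _)
  obtain ⟨h1, h2', hcomm, hinf, hsup⟩ := A.hD
  obtain ⟨S₂, hS₂, hprod, ⟨iso⟩⟩ := twist (D₁ := A.D) (D₂ := A.V) (P := (A.S : Subgroup G))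
    ⟨h2', h1, fun a ha b hb => (hcomm b hb a ha).symm, by rw [inf_comm]; exact hinf,
      by rw [sup_comm]; exact hsup⟩ φ hmemV
    (fun d p hp => A.toConf.inU_comm (A.toConf.V_inU (hmemV d)) hp)
  obtain ⟨p1, p2, p3, p4, p5⟩ := hprod
  have hlabel : ∀ i, IsConj (φ ⟨A.el i, A.toConf.el_mem i⟩ * A.el i) A.z ∧ ∀ b ∈ A.V,
      b ≠ φ ⟨A.el i, A.toConf.el_mem i⟩ → IsConj (b * A.el i) (A.v * A.z) := by
    intro i
    rw [hφel i]
    set k : ZMod A.m := if A.par i = 0 then 0 else 1 with hk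
    have hpk : A.par k = A.par i := by
      have z2 : ∀ x : ZMod 2, x = 0 ∨ x = 1 := by decide
      rcases z2 (A.par i) with hi | hi <;> rw [hi, hk, hi]
      · rw [if_pos rfl]; exact map_zero _
      · rw [if_neg one_ne_zero]; exact map_one _
    exact ⟨(A.toConf.isConj_el (hβV k) hpk).symm.trans (hβz k), fun b hb hne =>
      (A.toConf.isConj_el hb hpk).symm.trans (hβA k b hb hne)⟩
  have hnoel : ∀ {x g a : G}, x ∈ A.V → x ≠ 1 → a ∈ A.V → ∀ i,
      g * x * g⁻¹ ≠ a * A.el i := by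
    intro x g a hx hx1 ha i e
    have hxv : IsConj A.v (a * A.el i) :=
      (A.isConj_v hx hx1).1.trans (isConj_iff.2 ⟨g, e⟩)
    by_cases hb : a = φ ⟨A.el i, A.toConf.el_mem i⟩
    · subst hb
      have := A.not_conj_z (A.toConf.V_inU A.hv) (hxv.trans (hlabel i).1)
      exact A.toConf.z_ne (A.toConf.mul_uniq A.hv (one_mem _) (one_mem _) A.toConf.z_mem
        (by rw [mul_one, one_mul, this])).2.symm
    · exact A.sep A.hv A.hv A.hv1 A.hv1 (hxv.trans ((hlabel i).2 a ha hb))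
  refine ⟨S₂, ⟨p2, p1, fun a ha b hb => (p3 b hb a ha).symm, by rw [inf_comm]; exact p4,
    by rw [sup_comm]; exact p5⟩, ⟨iso.trans A.e⟩, ?_, ?_⟩
  · intro x hx _ g hg
    by_cases hx1 : x = 1
    · subst hx1; rw [mul_one, mul_inv_cancel]; exact one_mem _
    rcases A.toConf.invol_cases hg (by rw [conj_mul, A.sqV x hx]; simp) with hU | ⟨a, ha, i, e⟩
    · obtain ⟨a, ha, e | e⟩ := hU
      · rw [e]; exact ha
      · exfalso
        have hc : IsConj x (a * A.z) := isConj_iff.2 ⟨g, e⟩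
        by_cases ha1 : a = 1
        · subst ha1
          rw [one_mul] at hc
          have := A.not_conj_z (A.toConf.V_inU hx) hc
          exact A.toConf.z_ne (A.toConf.mul_uniq hx (one_mem _) (one_mem _) A.toConf.z_mem
            (by rw [mul_one, one_mul, this])).2.symm
        · exact A.sep hx ha hx1 ha1 hc
    · exact absurd e (hnoel hx hx1 ha i)
  · intro x hx hx2 g hg
    obtain ⟨d, rfl⟩ := (hS₂ x).1 hx
    have hφz : ∀ (hz : A.z ∈ A.D), φ ⟨A.z, hz⟩ = 1 := by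
      intro hz
      show h (A.e ⟨A.z, hz⟩) = 1
      rw [show A.e ⟨A.z, hz⟩ = DihedralGroup.r ((A.m / 2 : ℕ) : ZMod A.m) from
        A.e.apply_symm_apply _, (hh _).1]
      have h0 := A.toConf.par_half
      rw [Conf.par] at h0
      rw [h0]
      simp
    by_cases hx1 : (d : G) * φ d = 1
    · rw [hx1, mul_one, mul_inv_cancel]; exact one_mem _
    -- the element is conjugate to `z`
    have hxz : IsConj ((d : G) * φ d) A.z := by
      rcases A.toConf.cases_D d.2 with ⟨i, hi⟩ | ⟨i, hi⟩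
      · have hcd : (d : G) * φ d = φ d * d := (A.toConf.comm (hmemV d) d.2).symm
        have hii : A.rot (i + i) = 1 := by
          rw [← A.toConf.rot_rot, ← hi]
          have := hx2
          rw [hcd] at this
          calc (d : G) * d = φ d * φ d * ((d : G) * d) := by rw [A.sqV _ (hmemV d), one_mul]
            _ = φ d * d * (φ d * d) := by
              conv_rhs => rw [mul_assoc, ← mul_assoc (d : G), ← A.toConf.comm (hmemV d) d.2]
              simp only [mul_assoc]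
            _ = 1 := this
        rcases A.toConf.eq_half (A.toConf.rot_inj (hii.trans A.toConf.rot_zero.symm)) with rfl | rfl
        · exfalso
          refine hx1 ?_
          rw [A.toConf.rot_zero] at hi
          rw [show d = 1 from Subtype.ext hi, map_one, Subgroup.coe_one, mul_one]
        · rw [show d = ⟨A.z, A.toConf.z_mem⟩ from Subtype.ext hi, hφz, mul_one]
      · rw [show d = ⟨A.el i, A.toConf.el_mem i⟩ from Subtype.ext hi,
          ← A.toConf.comm (hmemV _) (A.toConf.el_mem i)]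
        exact (hlabel i).1
    have hy : IsConj (g * ((d : G) * φ d) * g⁻¹) A.z :=
      (isConj_iff.2 ⟨g, rfl⟩ : IsConj ((d : G) * φ d) _).symm.trans hxz
    rcases A.toConf.invol_cases hg (by rw [conj_mul, hx2]; simp) with hU | ⟨a, ha, i, e⟩
    · rw [A.not_conj_z hU hy]
      exact (hS₂ _).2 ⟨⟨A.z, A.toConf.z_mem⟩, by rw [hφz, mul_one]⟩
    · rw [e] at hy ⊢
      have hae : a = φ ⟨A.el i, A.toConf.el_mem i⟩ := by
        by_contra hne
        exact A.zv_ne (hy.symm.trans ((hlabel i).2 a ha hne))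
      exact (hS₂ _).2 ⟨⟨A.el i, A.toConf.el_mem i⟩, by
        rw [← hae, A.toConf.comm ha (A.toConf.el_mem i)]⟩

end Data

end Four

/-- Piece B. -/
theorem four : FourStmt.{u} := by
  intro G _ _ h2 S D₁ D₂ hD m₂ hm₂ ⟨e₁⟩ ⟨e₂⟩
  haveI : Fact (Nat.Prime 2) := ⟨Nat.prime_two⟩
  have hcard : Nat.card D₂ = 2 * m₂ := by
    rw [Nat.card_congr e₂.toEquiv, DihedralGroup.nat_card]
  obtain ⟨k, hk⟩ := IsPGroup.iff_card.1 (S.2.to_le hD.2.1)
  have h4 : 4 ∣ m₂ := by
    rw [hcard] at hk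
    have hk3 : 3 ≤ k := by
      by_contra hlt
      have : 2 ^ k ≤ 2 ^ 2 := Nat.pow_le_pow_right (by norm_num) (by omega)
      omega
    obtain ⟨j, rfl⟩ := Nat.exists_eq_add_of_le hk3
    refine ⟨2 ^ j, ?_⟩
    rw [pow_add] at hk
    omega
  have hsq : ∀ a ∈ D₁, a * a = 1 := by
    intro a ha
    have h : ∀ x : DihedralGroup 2, x * x = 1 := by decide
    exact congrArg Subtype.val (e₁.injective (by rw [map_mul, h, map_one]) :
      (⟨a, ha⟩ : D₁) * ⟨a, ha⟩ = 1)
  let X : Four.Conf G :=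
    { S := S, V := D₁, D := D₂, hD := hD, m := m₂, hm := h4, hm0 := by omega, e := e₂
      cardV := by rw [Nat.card_congr e₁.toEquiv, DihedralGroup.nat_card]
      sqV := hsq }
  obtain ⟨Y, hYS, -, hYm, n, hn, v, hv, w, hw, hv1, hw1, hvw, hnv, hnw⟩ := Four.exists_adapted X h2
  let A : Four.Data G :=
    { toConf := Y, n := n, hn := hn, v := v, w := w, hv := hv, hw := hw, hv1 := hv1, hw1 := hw1
      hvw := hvw, nv := hnv, nw := hnw, h2 := h2 }
  obtain ⟨S₂, hprod, ⟨e⟩, hc₁, hc₂⟩ := A.invClosed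
  have hS : (Y.S : Subgroup G) = (S : Subgroup G) := by rw [hYS]
  have hV : Nonempty (Y.V ≃* DihedralGroup 2) := by
    haveI : Nontrivial Y.V := Finite.one_lt_card_iff_nontrivial.1 (by rw [Y.cardV]; norm_num)
    haveI : IsKleinFour Y.V := ⟨Y.cardV, (Monoid.exponent_eq_prime_iff Nat.prime_two).2 fun g hg =>
      orderOf_eq_prime (by rw [pow_two]; exact Subtype.ext (Y.sqV g g.2)) hg⟩
    haveI : IsKleinFour (DihedralGroup 2) := inferInstance
    exact IsKleinFour.nonempty_mulEquiv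
  refine ⟨Y.V, S₂, hS ▸ hprod, hV, ?_, hS ▸ hc₁, hS ▸ hc₂⟩
  exact ⟨e.trans (MulEquiv.cast (by rw [hYm]))⟩

end CfsgLib.DihedralPairFusion
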