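import Cfsg.Agent.Lib.DihedralPairFusion.Interface
import Cfsg.Agent.Lib.StrongClosedPair.Split

/-!
# S3113 from the three pieces
-/

set_option autoImplicit false
set_option linter.style.haveILetI false

namespace CfsgLib.DihedralPairFusion

open Cfsg

universe u

theorem symm_prod {G : Type u} [Group G] {A B P : Subgroup G} (h : IsInternalDirectProduct A B P) :
    IsInternalDirectProduct B A P :=
  ⟨h.2.1, h.1, fun a ha b hb => (h.2.2.1 b hb a ha).symm, inf_comm B A ▸ h.2.2.2.1,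
    sup_comm B A ▸ h.2.2.2.2⟩

/-- The order of a dihedral factor of a two-group. -/
theorem degree_cases {G : Type u} [Group G] [Finite G] {S : Sylow 2 G} {D : Subgroup G} (hle : D ≤ S) {m : ℕ}
    (hm : 2 ≤ m) (e : D ≃* DihedralGroup m) : m = 2 ∨ 4 ≤ m := by
  haveI : Fact (Nat.Prime 2) := ⟨Nat.prime_two⟩
  obtain ⟨k, hk⟩ := IsPGroup.iff_card.1 (S.isPGroup'.to_le hle)
  rw [Nat.card_congr e.toEquiv, DihedralGroup.nat_card] at hk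
  by_contra hcon
  push Not at hcon
  obtain rfl : m = 3 := by omega
  have h3 : 3 ∣ 2 ^ k := ⟨2, hk.symm⟩
  have := (Nat.prime_dvd_prime_iff_eq Nat.prime_three Nat.prime_two).1 (Nat.prime_three.dvd_of_dvd_pow h3)
  omega

/-- The theorem from the pieces. -/
theorem main (hA : BigStmt.{u}) (hB : FourStmt.{u}) (hC : CloseStmt.{u}) {G : Type u} [Group G] [Finite G]
    (hO : oddCore G = ⊥) (hidx : ∀ N : Subgroup G, N.Normal → Odd N.index → N = ⊤)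
    (h2 : ∀ N : Subgroup G, N.Normal → N.index ≠ 2) (S : Sylow 2 G)
    (hS : ¬ IsMulCommutative ↥(S : Subgroup G)) (D₁ D₂ : Subgroup G)
    (hD : IsInternalDirectProduct D₁ D₂ (S : Subgroup G))
    (hD₁ : ∃ m : ℕ, 2 ≤ m ∧ Nonempty (↥D₁ ≃* DihedralGroup m))
    (hD₂ : ∃ m : ℕ, 2 ≤ m ∧ Nonempty (↥D₂ ≃* DihedralGroup m)) :
    ∃ G₁ G₂ : Subgroup G, G₁.Normal ∧ G₂.Normal ∧ IsInternalDirectProduct G₁ G₂ ⊤ ∧
      ∃ S₁ S₂ : Subgroup G, IsInternalDirectProduct S₁ S₂ (S : Subgroup G) ∧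
        (∃ m : ℕ, 2 ≤ m ∧ Nonempty (↥S₁ ≃* DihedralGroup m)) ∧
        (∃ m : ℕ, 2 ≤ m ∧ Nonempty (↥S₂ ≃* DihedralGroup m)) ∧
        S₁ ≤ G₁ ∧ S₂ ≤ G₂ ∧ ¬ (2 ∣ (S₁.subgroupOf G₁).index) ∧ ¬ (2 ∣ (S₂.subgroupOf G₂).index) := by
  obtain ⟨m₁, hm₁, ⟨e₁⟩⟩ := hD₁
  obtain ⟨m₂, hm₂, ⟨e₂⟩⟩ := hD₂
  have hfac : ∃ S₁ S₂ : Subgroup G, IsInternalDirectProduct S₁ S₂ (S : Subgroup G) ∧
      (∃ m, 2 ≤ m ∧ Nonempty (S₁ ≃* DihedralGroup m)) ∧ (∃ m, 2 ≤ m ∧ Nonempty (S₂ ≃* DihedralGroup m)) ∧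
      InvClosed S₁ (S : Subgroup G) ∧ InvClosed S₂ (S : Subgroup G) := by
    rcases degree_cases hD.1 hm₁ e₁ with rfl | h₁ <;> rcases degree_cases hD.2.1 hm₂ e₂ with rfl | h₂
    · exfalso
      refine hS ⟨⟨fun a b => Subtype.ext ?_⟩⟩
      have hab : ∀ {D : Subgroup G}, (D ≃* DihedralGroup 2) → D ≤ Subgroup.centralizer (D : Set G) := by
        intro D e x hx y hy
        have key : ∀ a b : DihedralGroup 2, a * b = b * a := by decide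
        exact congrArg Subtype.val (e.injective (by rw [map_mul, map_mul]; exact key _ _) :
          (⟨y, hy⟩ : D) * ⟨x, hx⟩ = ⟨x, hx⟩ * ⟨y, hy⟩)
      have hc1 : D₁ ≤ Subgroup.centralizer ((S : Subgroup G) : Set G) := by
        rw [Subgroup.le_centralizer_iff, ← hD.2.2.2.2]
        exact sup_le (hab e₁) fun y hy x hx => hD.2.2.1 x hx y hy
      have hc2 : D₂ ≤ Subgroup.centralizer ((S : Subgroup G) : Set G) := by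
        rw [Subgroup.le_centralizer_iff, ← hD.2.2.2.2]
        exact sup_le (fun x hx y hy => (hD.2.2.1 x hx y hy).symm) (hab e₂)
      have h : (S : Subgroup G) ≤ Subgroup.centralizer ((S : Subgroup G) : Set G) := by
        conv_lhs => rw [← hD.2.2.2.2]
        exact sup_le hc1 hc2
      exact (h b.2 a a.2)
    · obtain ⟨S₁, S₂, hp, i₁, i₂, c₁, c₂⟩ := hB G h2 S D₁ D₂ hD m₂ h₂ ⟨e₁⟩ ⟨e₂⟩
      exact ⟨S₁, S₂, hp, ⟨2, le_rfl, i₁⟩, ⟨m₂, by omega, i₂⟩, c₁, c₂⟩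
    · obtain ⟨S₁, S₂, hp, i₁, i₂, c₁, c₂⟩ := hB G h2 S D₂ D₁ (symm_prod hD) m₁ h₁ ⟨e₂⟩ ⟨e₁⟩
      exact ⟨S₂, S₁, symm_prod hp, ⟨m₁, by omega, i₂⟩, ⟨2, le_rfl, i₁⟩, c₂, c₁⟩
    · obtain ⟨S₁, S₂, hp, i₁, i₂, c₁, c₂⟩ := hA G h2 S D₁ D₂ hD m₁ m₂ h₁ h₂ ⟨e₁⟩ ⟨e₂⟩
      exact ⟨S₁, S₂, hp, ⟨m₁, by omega, i₁⟩, ⟨m₂, by omega, i₂⟩, c₁, c₂⟩
  obtain ⟨S₁, S₂, hp, ⟨n₁, hn₁, i₁⟩, ⟨n₂, hn₂, i₂⟩, c₁, c₂⟩ := hfac
  have k₁ := hC G S S₁ S₂ hp n₁ n₂ hn₁ hn₂ i₁ i₂ c₁ c₂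
  have k₂ := hC G S S₂ S₁ (symm_prod hp) n₂ n₁ hn₂ hn₁ i₂ i₁ c₂ c₁
  obtain ⟨hle₁, hle₂, hc, hd, hsup⟩ := hp
  obtain ⟨hG, ho₁, ho₂⟩ := CfsgLib.StrongClosedPair.split (P := S) (S₁ := S₁) (S₂ := S₂)
    ⟨hc, hd, k₁, k₂⟩ hsup hO hidx
  exact ⟨_, _, Subgroup.normalClosure_normal, Subgroup.normalClosure_normal, hG, S₁, S₂,
    ⟨hle₁, hle₂, hc, hd, hsup⟩, ⟨n₁, hn₁, i₁⟩, ⟨n₂, hn₂, i₂⟩,
    Subgroup.le_normalClosure, Subgroup.le_normalClosure,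
    fun h => (Nat.not_even_iff_odd.2 ho₁) (even_iff_two_dvd.2 h),
    fun h => (Nat.not_even_iff_odd.2 ho₂) (even_iff_two_dvd.2 h)⟩

end CfsgLib.DihedralPairFusion
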